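import Groth.Agent.DualSch.Restrict
import Groth.Agent.DualCx.LocalizeDual
import Groth.Agent.DQCoh.Affine
import Groth.Agent.RelPCS.Calc

/-!
Dualizing complexes on charts.
-/

set_option backward.isDefEq.respectTransparency false
set_option backward.isDefEq.respectTransparency.types false
set_option linter.style.haveILetI false
set_option autoImplicit false
set_option maxHeartbeats 1000000

universe u

open CategoryTheory CategoryTheory.Limits AlgebraicGeometry

attribute [local instance] HasDerivedCategory.standard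

namespace Groth.Agent.DualSch

open Groth.Agent.DQCoh

/-- A basic open of a chart, written with the ring of the chart. -/
theorem exists_elem {A : Type u} [CommRing A] {X : Scheme.{u}} (j : Spec (CommRingCat.of A) ⟶ X) [IsOpenImmersion j]
    (f₀ : Γ(X, j.opensRange)) : ∃ f : A, j ⁻¹ᵁ X.basicOpen f₀ = PrimeSpectrum.basicOpen f := by
  have h : j ⁻¹ᵁ j.opensRange = ⊤ := eq_top_iff.2 fun q _ => ⟨q, rfl⟩
  refine ⟨(Scheme.ΓSpecIso (CommRingCat.of A)).hom
    ((Spec (CommRingCat.of A)).presheaf.map (eqToHom h.symm).op (j.app j.opensRange f₀)), ?_⟩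
  rw [Scheme.preimage_basicOpen, ← Scheme.basicOpen_res_eq _ _ (eqToHom h.symm).op, basicOpen_eq_of_affine']

/-- Two charts through a point share a basic open. -/
theorem exists_common_chart {A A' : Type u} [CommRing A] [CommRing A'] {X : Scheme.{u}}
    (j : Spec (CommRingCat.of A) ⟶ X) [IsOpenImmersion j] (k : Spec (CommRingCat.of A') ⟶ X) [IsOpenImmersion k]
    (q : PrimeSpectrum A) (q' : PrimeSpectrum A') (h : j q = k q') :
    ∃ (f : A) (g : A') (ψ : A' →+* Localization.Away f),
      f ∉ q.asIdeal ∧ @IsLocalization.Away A' _ g (Localization.Away f) _ ψ.toAlgebra ∧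
      Spec.map (CommRingCat.ofHom (algebraMap A (Localization.Away f))) ≫ j =
        Spec.map (CommRingCat.ofHom ψ) ≫ k := by
  have hU : IsAffineOpen j.opensRange := isAffineOpen_opensRange j
  have hV : IsAffineOpen k.opensRange := isAffineOpen_opensRange k
  obtain ⟨f₀, g₀, hfg, hx⟩ := exists_basicOpen_le_affine_inter hU hV (j q) ⟨⟨q, rfl⟩, ⟨q', h.symm⟩⟩
  obtain ⟨f, hf⟩ := exists_elem j f₀
  obtain ⟨g, hg⟩ := exists_elem k g₀
  let sf := Spec.map (CommRingCat.ofHom (algebraMap A (Localization.Away f)))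
  let sg := Spec.map (CommRingCat.ofHom (algebraMap A' (Localization.Away g)))
  haveI : IsOpenImmersion sf := IsOpenImmersion.of_isLocalization (R := A) (S := Localization.Away f) f
  haveI : IsOpenImmersion sg := IsOpenImmersion.of_isLocalization (R := A') (S := Localization.Away g) g
  have r₁ : Set.range sf = (PrimeSpectrum.basicOpen f : Set (PrimeSpectrum A)) :=
    PrimeSpectrum.localization_away_comap_range (Localization.Away f) f
  have r₂ : Set.range sg = (PrimeSpectrum.basicOpen g : Set (PrimeSpectrum A')) :=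
    PrimeSpectrum.localization_away_comap_range (Localization.Away g) g
  have hr : Set.range (sf ≫ j) = Set.range (sg ≫ k) := by
    ext x
    constructor
    · rintro ⟨y, rfl⟩
      have hy : sf y ∈ j ⁻¹ᵁ X.basicOpen f₀ := by
        rw [hf]; exact r₁.le ⟨y, rfl⟩
      have hy' : j (sf y) ∈ X.basicOpen g₀ := hfg ▸ hy
      obtain ⟨z, hz⟩ : j (sf y) ∈ k.opensRange := X.basicOpen_le g₀ hy'
      obtain ⟨w, hw⟩ := r₂.ge (show z ∈ PrimeSpectrum.basicOpen g by
        rw [← hg]; show k z ∈ X.basicOpen g₀; rw [hz]; exact hy')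
      refine ⟨w, ?_⟩
      show k (sg w) = j (sf y)
      rw [hw, hz]
    · rintro ⟨y, rfl⟩
      have hy : sg y ∈ k ⁻¹ᵁ X.basicOpen g₀ := by
        rw [hg]; exact r₂.le ⟨y, rfl⟩
      have hy' : k (sg y) ∈ X.basicOpen f₀ := hfg.symm ▸ hy
      obtain ⟨z, hz⟩ : k (sg y) ∈ j.opensRange := X.basicOpen_le f₀ hy'
      obtain ⟨w, hw⟩ := r₁.ge (show z ∈ PrimeSpectrum.basicOpen f by
        rw [← hf]; show j z ∈ X.basicOpen f₀; rw [hz]; exact hy')
      refine ⟨w, ?_⟩
      show j (sf w) = k (sg y)
      rw [hw, hz]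
  let e := IsOpenImmersion.isoOfRangeEq (sf ≫ j) (sg ≫ k) hr
  let eR : CommRingCat.of (Localization.Away g) ⟶ CommRingCat.of (Localization.Away f) := Spec.preimage e.hom
  haveI : IsIso (Spec.map eR) := by rw [Spec.map_preimage]; infer_instance
  haveI : IsIso (Scheme.Spec.map eR.op) := inferInstanceAs (IsIso (Spec.map eR))
  haveI : IsIso eR.op := isIso_of_reflects_iso eR.op Scheme.Spec
  haveI : IsIso eR := isIso_of_op eR
  let ψ : A' →+* Localization.Away f := eR.hom.comp (algebraMap A' (Localization.Away g))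
  refine ⟨f, g, ψ, fun hq => ?_, ?_, ?_⟩
  · have : q ∈ j ⁻¹ᵁ X.basicOpen f₀ := hx
    rw [hf] at this
    exact this hq
  · letI := ψ.toAlgebra
    exact IsLocalization.isLocalization_of_algEquiv (Submonoid.powers g)
      { (asIso eR).commRingCatIsoToRingEquiv with commutes' := fun _ => rfl }
  · have h1 : CommRingCat.ofHom ψ = CommRingCat.ofHom (algebraMap A' (Localization.Away g)) ≫ eR := rfl
    rw [h1, Spec.map_comp, Category.assoc, Spec.map_preimage]
    exact (IsOpenImmersion.isoOfRangeEq_hom_fac _ _ hr).symm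

/-- Isomorphisms of tilde complexes come from isomorphisms of complexes. -/
theorem nonempty_iso_of_tildeD {A : Type u} [CommRing A] [PreservesFiniteLimits (tilde.functor (CommRingCat.of A))]
    {M N : Dual.D A}
    (e : (DCoh.tildeD (CommRingCat.of A)).obj M ≅ (DCoh.tildeD (CommRingCat.of A)).obj N) : Nonempty (M ≅ N) := by
  haveI := (tildeD_affine (R := CommRingCat.of A)).1
  haveI := (tildeD_affine (R := CommRingCat.of A)).2.1
  exact ⟨(DCoh.tildeD (CommRingCat.of A)).preimageIso e⟩

variable {X : Scheme.{u}}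
  [∀ (U V : Scheme.{u}) (j : U ⟶ V) [IsOpenImmersion j], PreservesFiniteLimits (Scheme.Modules.restrictFunctor j)]
  [∀ (R : CommRingCat.{u}), PreservesFiniteLimits (tilde.functor R)]

/-- A complex in a chart, seen in a smaller chart. -/
theorem nonempty_chart_restrict {A B : Type u} [CommRing A] [CommRing B] [Algebra A B] [Module.Flat A B]
    [IsOpenImmersion (Spec.map (CommRingCat.ofHom (algebraMap A B)))]
    (j : Spec (CommRingCat.of A) ⟶ X) [IsOpenImmersion j] {K : DCoh.D X} {ω : Dual.D A}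
    (e : (DCoh.restrictD j).obj K ≅ (DCoh.tildeD (CommRingCat.of A)).obj ω)
    [DRing.HasLBaseChange (algebraMap A B)] :
    Nonempty ((DCoh.restrictD (Spec.map (CommRingCat.ofHom (algebraMap A B)) ≫ j)).obj K ≅
      (DCoh.tildeD (CommRingCat.of B)).obj ((DRing.LBaseChange (algebraMap A B)).obj ω)) := by
  obtain ⟨e'⟩ := nonempty_restrict_tildeD (A := A) (B := B) ω
  exact ⟨(rdComp _ j).app K ≪≫ (DCoh.restrictD _).mapIso e ≪≫ e'⟩

/-- The complexes of two charts agree on a common localisation. -/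
theorem nonempty_chart_compare {A A' B : Type u} [CommRing A] [CommRing A'] [CommRing B] [Algebra A B]
    [Algebra A' B] [Module.Flat A B] [Module.Flat A' B]
    [IsOpenImmersion (Spec.map (CommRingCat.ofHom (algebraMap A B)))]
    [IsOpenImmersion (Spec.map (CommRingCat.ofHom (algebraMap A' B)))]
    (j : Spec (CommRingCat.of A) ⟶ X) [IsOpenImmersion j]
    (k : Spec (CommRingCat.of A') ⟶ X) [IsOpenImmersion k]
    (hjk : Spec.map (CommRingCat.ofHom (algebraMap A B)) ≫ j = Spec.map (CommRingCat.ofHom (algebraMap A' B)) ≫ k)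
    {K : DCoh.D X} {ω : Dual.D A} {ω' : Dual.D A'}
    (e : (DCoh.restrictD j).obj K ≅ (DCoh.tildeD (CommRingCat.of A)).obj ω)
    (e' : (DCoh.restrictD k).obj K ≅ (DCoh.tildeD (CommRingCat.of A')).obj ω')
    [DRing.HasLBaseChange (algebraMap A B)] [DRing.HasLBaseChange (algebraMap A' B)] :
    Nonempty ((DRing.LBaseChange (algebraMap A B)).obj ω ≅ (DRing.LBaseChange (algebraMap A' B)).obj ω') := by
  obtain ⟨e₁⟩ := nonempty_chart_restrict (B := B) j e
  obtain ⟨e₂⟩ := nonempty_chart_restrict (B := B) k e'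
  exact nonempty_iso_of_tildeD (e₁.symm ≪≫ (rdCongr hjk).app K ≪≫ e₂)

/-- Being dualizing can be tested on a cover by charts. -/
theorem isDualizingSch_of_cover [IsLocallyNoetherian X] (K : DCoh.D X) (ι : Type u) (R : ι → Type u) [∀ i, CommRing (R i)]
    (k : ∀ i, Spec (CommRingCat.of (R i)) ⟶ X) [∀ i, IsOpenImmersion (k i)]
    (hcov : ∀ x : X, ∃ i, x ∈ Set.range (k i))
    (hK : ∀ i, ∃ ω : Dual.D (R i), Dual.IsDualizing (R i) ω ∧
      Nonempty ((DCoh.restrictD (k i)).obj K ≅ (DCoh.tildeD (CommRingCat.of (R i))).obj ω)) :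
    Dual2.IsDualizingSch X K := by
  haveI := fun (S T : Type u) [CommRing S] [CommRing T] (φ : S →+* T) => DRingKP.hasLBaseChange φ
  intro A _ j _
  choose ω hω he using hK
  -- quasi-coherence
  have hq : DCoh.IsQCohD ((DCoh.restrictD j).obj K) := by
    intro n
    refine QC.isQCoh_of_iso ((homologyDerIso (Scheme.Modules.restrictFunctor j) n).app K).symm
      (QC.isQCoh_restrict j ?_)
    show (DCoh.HD K n).IsQuasicoherent
    refine QC.isQCoh_of_local fun x => ?_
    obtain ⟨i, q, hq⟩ := hcov x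
    exact ⟨_, k i, inferInstance, ⟨q, hq⟩, QC.isQCoh_of_iso (nonempty_restrict_HD (k i) (he i).some n).some.symm
      (QC.isQCoh_tilde _)⟩
  obtain ⟨w, ⟨ew⟩⟩ := ((tildeD_affine (R := CommRingCat.of A)).2.2 _).1 hq
  have key : ∀ q : PrimeSpectrum A, ∃ f : A, f ∉ q.asIdeal ∧
      Dual.IsDualizing (Localization.Away f) ((DRing.LBaseChange (algebraMap A (Localization.Away f))).obj w) := by
    intro q
    obtain ⟨i, q', hq'⟩ := hcov (j q)
    obtain ⟨f, g, ψ, hf, hloc, hfac⟩ := exists_common_chart j (k i) q q' hq'.symm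
    letI := ψ.toAlgebra
    haveI := hloc
    haveI : IsOpenImmersion (Spec.map (CommRingCat.ofHom (algebraMap A (Localization.Away f)))) :=
      IsOpenImmersion.of_isLocalization (R := A) (S := Localization.Away f) f
    haveI : IsOpenImmersion (Spec.map (CommRingCat.ofHom (algebraMap (R i) (Localization.Away f)))) :=
      IsOpenImmersion.of_isLocalization (R := R i) (S := Localization.Away f) g
    haveI : Module.Flat A (Localization.Away f) := IsLocalization.flat _ (Submonoid.powers f)
    haveI : Module.Flat (R i) (Localization.Away f) := IsLocalization.flat _ (Submonoid.powers g)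
    haveI := (hω i).isNoetherianRing
    obtain ⟨e⟩ := nonempty_chart_compare j (k i) hfac ew.symm (he i).some
    exact ⟨f, hf, DualCx.isDualizing_of_iso e.symm
      (DualCx.Loc.isDualizing_lBaseChange (Submonoid.powers g) (hω i))⟩
  choose f hf hfd using key
  have hspan : Ideal.span (Set.range f) = ⊤ := by
    by_contra h
    obtain ⟨m, hm, hle⟩ := Ideal.exists_le_maximal _ h
    exact hf ⟨m, hm.isPrime⟩ (hle (Ideal.subset_span ⟨_, rfl⟩))
  obtain ⟨t, ht⟩ := (Ideal.span_eq_top_iff_finite _).1 hspan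
  have hpts : ∀ y ∈ t, ∃ q, f q = y := fun y hy => ht.1 hy
  haveI : IsNoetherianRing A := by
    haveI : IsLocallyNoetherian (Spec (CommRingCat.of A)) := LocallyOfFiniteType.isLocallyNoetherian j
    exact isLocallyNoetherian_Spec.1 ‹_›
  refine ⟨w, DualCx.Loc.isDualizing_of_away (fun i : Fin t.card => (t.equivFin.symm i : A)) ?_ w
    (fun i => ⟨inferInstance, ?_⟩), ⟨ew.symm⟩⟩
  · rw [← ht.2]
    congr 1
    ext y
    exact ⟨fun ⟨i, hi⟩ => hi ▸ (t.equivFin.symm i).2, fun hy => ⟨t.equivFin ⟨y, hy⟩, by simp⟩⟩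
  · obtain ⟨q, hq⟩ := hpts _ (t.equivFin.symm i).2
    rw [← hq]
    exact hfd q

end Groth.Agent.DualSch
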