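import Groth.Agent.DualSch.SelfDual
import Groth.Agent.DualSch.Glue
import Groth.Prelude.Def_Dual3

/-!
Gorenstein schemes and invertible dualizing complexes.
-/

set_option backward.isDefEq.respectTransparency false
set_option backward.isDefEq.respectTransparency.types false
set_option linter.style.haveILetI false
set_option autoImplicit false
set_option maxHeartbeats 1000000

universe u

open CategoryTheory CategoryTheory.Limits AlgebraicGeometry TensorProduct

attribute [local instance] HasDerivedCategory.standard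

namespace Groth.Agent.DualSch

open Groth.Agent.DQCoh Groth.Agent.DualCx Groth.Agent.Shriek Groth.Agent.DualFlat

/-- A dualizing complex is a shift of the ring near a Gorenstein prime. -/
theorem exists_away_of_gorenstein {A : Type u} [CommRing A] [IsNoetherianRing A] {ω : Dual.D A}
    (hω : Dual.IsDualizing A ω) (q : PrimeSpectrum A)
    [LocCoh.IsGorensteinLocalRing (Localization.AtPrime q.asIdeal)]
    [hL : ∀ f : A, DRing.HasLBaseChange (algebraMap A (Localization.Away f))] :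
    ∃ (f : A) (_ : f ∉ q.asIdeal) (m : ℤ),
      Nonempty ((DRing.LBaseChange (algebraMap A (Localization.Away f))).obj ω ≅
        (Dual.inD (Localization.Away f) (Localization.Away f))⟦m⟧) := by
  haveI := fun (S T : Type u) [CommRing S] [CommRing T] (φ : S →+* T) => DRingKP.hasLBaseChange φ
  let Aq := Localization.AtPrime q.asIdeal
  have hq := DualCx.Loc.isDualizing_lBaseChange (B := Aq) q.asIdeal.primeCompl hω
  obtain ⟨r, hr⟩ := SerreReg.exists_dim_nat Aq
  obtain ⟨m, ⟨em⟩⟩ := DualCx.exists_shift_iso (DualCx.gorenstein_normalized hr).1 hq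
  let eK : (DRing.LBaseChange (algebraMap A Aq)).obj ω ≅ (Dual.inD Aq Aq)⟦(r : ℤ) + m⟧ :=
    em ≪≫ ((CategoryTheory.shiftFunctorAdd' (Dual.D Aq) (r : ℤ) m ((r : ℤ) + m) rfl).app _).symm
  obtain ⟨a, b, hab⟩ := DualCx.Loc.subsingleton_hd_of_injdim hω
  let c : ℤ := -((r : ℤ) + m)
  haveI : Module.Flat A Aq := IsLocalization.flat Aq q.asIdeal.primeCompl
  haveI : PreservesFiniteLimits (DualCx.ext (algebraMap A Aq)) := DualCx.preservesFiniteLimits_ext
  have hH : ∀ j, Nonempty (Aq ⊗[A] Dual.HD A ω j ≃ₗ[Aq] Dual.HD Aq ((Dual.inD Aq Aq)⟦(r : ℤ) + m⟧) j) := fun j =>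
    ⟨((locHD (algebraMap A Aq) ω j).toLinearEquiv.trans (tens Aq _)).symm.trans
      ((DerivedCategory.homologyFunctor (ModuleCat.{u} Aq) j).mapIso
        ((lBaseChangeObjIso _ ω).symm ≪≫ eK)).toLinearEquiv⟩
  obtain ⟨eH⟩ := hH c
  obtain ⟨es⟩ := nonempty_hd_shift (Dual.inD Aq Aq) ((r : ℤ) + m) c
  obtain ⟨x₀, hgen, hann⟩ := exists_generator_of_free q.asIdeal (Dual.HD A ω c)
    (eH.trans (es.trans (((DerivedCategory.homologyFunctor (ModuleCat.{u} Aq) ((r : ℤ) + m + c))).mapIso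
      (Iso.refl (Dual.inD Aq Aq))).toLinearEquiv |>.trans (by
        rw [show (r : ℤ) + m + c = 0 by omega]
        exact ((DerivedCategory.singleFunctorCompHomologyFunctorIso (ModuleCat.{u} Aq) 0).app (ModuleCat.of Aq Aq)).toLinearEquiv)))
  refine exists_away_single hab hω.finite_cohomology q.asIdeal c x₀ (fun j hj x => ?_) hgen hann
  obtain ⟨eH⟩ := hH j
  obtain ⟨es⟩ := nonempty_hd_shift (Dual.inD Aq Aq) ((r : ℤ) + m) j
  haveI := DualCx.subsingleton_hd_inD Aq (j := (r : ℤ) + m + j) (by omega) (A := Aq)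
  haveI : Subsingleton (Aq ⊗[A] Dual.HD A ω j) := (eH.trans es).toEquiv.subsingleton
  obtain ⟨⟨s, hs⟩, hsx⟩ := (IsLocalizedModule.eq_zero_iff q.asIdeal.primeCompl
    (TensorProduct.mk A Aq (Dual.HD A ω j) 1) (m := x)).1 (Subsingleton.elim _ _)
  exact ⟨s, hs, hsx⟩

variable {X : Scheme.{u}}
  [∀ (U V : Scheme.{u}) (j : U ⟶ V) [IsOpenImmersion j], PreservesFiniteLimits (Scheme.Modules.restrictFunctor j)]
  [∀ (R : CommRingCat.{u}), PreservesFiniteLimits (tilde.functor R)]

/-- The structure sheaf restricted to an open. -/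
theorem nonempty_restrict_unit {U : Scheme.{u}} (l : U ⟶ X) [IsOpenImmersion l] :
    Nonempty ((DCoh.restrictD l).obj (DCoh.inD X (Coh.structureModule X)) ≅
      DCoh.inD U (Coh.structureModule U)) :=
  ⟨RelPCS.rdInD l _ ≪≫ (DerivedCategory.singleFunctor U.Modules 0).mapIso (Scheme.Modules.restrictUnitIso l)⟩

theorem isInvertibleD_of_isGorenstein {K : DCoh.D X} (hX : Dual3.IsGorenstein X)
    (hK : Dual2.IsDualizingSch X K) : Dual3.IsInvertibleD K := by
  haveI := fun (S T : Type u) [CommRing S] [CommRing T] (φ : S →+* T) => DRingKP.hasLBaseChange φ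
  intro x
  obtain ⟨A, j, hj, ⟨q, rfl⟩, -⟩ :=
    Scheme.exists_affine_mem_range_and_range_subset (U := (⊤ : X.Opens)) (x := x) trivial
  obtain ⟨ω, hω, ⟨e⟩⟩ := hK A j
  haveI := hω.isNoetherianRing
  haveI := (gorenstein_stalk_iff j q).1 (hX.2 (j q))
  obtain ⟨f, hf, m, ⟨ef⟩⟩ := exists_away_of_gorenstein hω q
  let sf := Spec.map (CommRingCat.ofHom (algebraMap A (Localization.Away f)))
  haveI : IsOpenImmersion sf := IsOpenImmersion.of_isLocalization (R := A) (S := Localization.Away f) f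
  haveI : Module.Flat A (Localization.Away f) := IsLocalization.flat _ (Submonoid.powers f)
  obtain ⟨e₁⟩ := nonempty_chart_restrict (B := Localization.Away f) j e
  obtain ⟨e₂⟩ := nonempty_restrict_structureModule (A := Localization.Away f) (sf ≫ j)
  let ek : (DCoh.restrictD (sf ≫ j)).obj K ≅
      ((DCoh.restrictD (sf ≫ j)).obj (DCoh.inD X (Coh.structureModule X)))⟦m⟧ :=
    e₁ ≪≫ (DCoh.tildeD (CommRingCat.of (Localization.Away f))).mapIso ef ≪≫
      ((DCoh.tildeD (CommRingCat.of (Localization.Away f))).commShiftIso m).app _ ≪≫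
      (CategoryTheory.shiftFunctor _ m).mapIso e₂.symm
  obtain ⟨z, hz⟩ := (PrimeSpectrum.localization_away_comap_range (Localization.Away f) f).ge
    (show q ∈ (PrimeSpectrum.basicOpen f : Set (PrimeSpectrum A)) from hf)
  refine ⟨(sf ≫ j).opensRange, m, ⟨z, congrArg j.base hz⟩, ?_⟩
  let i := (sf ≫ j).isoOpensRange
  have hi : i.inv ≫ (sf ≫ j) = (sf ≫ j).opensRange.ι := (sf ≫ j).isoOpensRange_inv_comp
  obtain ⟨eu⟩ := nonempty_restrict_unit (sf ≫ j).opensRange.ι
  exact ⟨(rdCongr hi.symm).app K ≪≫ (rdComp i.inv (sf ≫ j)).app K ≪≫ (DCoh.restrictD i.inv).mapIso ek ≪≫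
    ((DCoh.restrictD i.inv).commShiftIso m).app _ ≪≫
    (CategoryTheory.shiftFunctor _ m).mapIso (((rdComp i.inv (sf ≫ j)).app _).symm ≪≫
      (rdCongr hi).app _ ≪≫ eu)⟩

theorem isGorenstein_of_isInvertibleD [IsLocallyNoetherian X] {K : DCoh.D X} (hI : Dual3.IsInvertibleD K)
    (hK : Dual2.IsDualizingSch X K) : Dual3.IsGorenstein X := by
  haveI := fun (S T : Type u) [CommRing S] [CommRing T] (φ : S →+* T) => DRingKP.hasLBaseChange φ
  refine ⟨inferInstance, fun x => ?_⟩
  obtain ⟨U, n, hxU, ⟨eU⟩⟩ := hI x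
  obtain ⟨B, l, hl, ⟨q, hq⟩, -⟩ := Scheme.exists_affine_mem_range_and_range_subset
    (X := (U : Scheme.{u})) (U := ⊤) (x := ⟨x, hxU⟩) trivial
  obtain ⟨ω, hω, ⟨e⟩⟩ := hK B (l ≫ U.ι)
  haveI := hω.isNoetherianRing
  obtain ⟨e₂⟩ := nonempty_restrict_structureModule (A := B) l
  obtain ⟨eω⟩ := nonempty_iso_of_tildeD (A := B) (M := ω) (N := (Dual.inD B B)⟦n⟧)
    (e.symm ≪≫ (rdComp l U.ι).app K ≪≫ (DCoh.restrictD l).mapIso eU ≪≫
      ((DCoh.restrictD l).commShiftIso n).app _ ≪≫ (CategoryTheory.shiftFunctor _ n).mapIso e₂ ≪≫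
      (((DCoh.tildeD (CommRingCat.of B)).commShiftIso n).app _).symm)
  have hx : (l ≫ U.ι) q = x := congrArg U.ι.base hq
  rw [← hx]
  refine (gorenstein_stalk_iff (l ≫ U.ι) q).2 (gorenstein_of_shift n ?_)
  exact DualCx.isDualizing_of_iso ((DRing.LBaseChange (algebraMap B (Localization.AtPrime q.asIdeal))).mapIso eω ≪≫ lbcShift _ n)
    (DualCx.Loc.isDualizing_lBaseChange (B := Localization.AtPrime q.asIdeal) q.asIdeal.primeCompl hω)

end Groth.Agent.DualSch
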