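import Groth.Agent.DualSch.Chart
import Groth.Agent.DualCx.GorLocus
import Groth.Agent.DualCx.LocalizePrime
import Groth.Agent.DualCx.Regular
import Groth.Agent.Shriek.GorFib
import Groth.Agent.RelPCS.PushPC

/-!
The structure sheaf of a Gorenstein scheme as a dualizing complex.
-/

set_option backward.isDefEq.respectTransparency false
set_option backward.isDefEq.respectTransparency.types false
set_option linter.style.haveILetI false
set_option autoImplicit false

universe u

open CategoryTheory CategoryTheory.Limits AlgebraicGeometry

attribute [local instance] HasDerivedCategory.standard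

namespace Groth.Agent.DualSch

/-- A finite-dimensional ring with Gorenstein localisations is its own dualizing complex. -/
theorem isDualizing_inD_of_gorenstein {A : Type u} [CommRing A] [IsNoetherianRing A]
    (hdim : ringKrullDim A < ⊤)
    (hG : ∀ p : PrimeSpectrum A, LocCoh.IsGorensteinLocalRing (Localization.AtPrime p.asIdeal)) :
    Dual.IsDualizing A (Dual.inD A A) := by
  refine DualCx.Loc.isDualizing_of_forall_prime hdim _ (DualCx.finite_hd_inD A) fun p => ?_
  haveI := DRingKP.hasLBaseChange (algebraMap A (Localization.AtPrime p.asIdeal))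
  haveI := hG p
  obtain ⟨n, hn⟩ := LocCoh.IsGorensteinLocalRing.exists_hasInjectiveDimensionLT
    (A := Localization.AtPrime p.asIdeal)
  exact ⟨inferInstance, DualCx.isDualizing_of_iso
    (((DRing.LBaseChange _).mapIso ((CategoryTheory.shiftFunctorZero (Dual.D A) ℤ).app (Dual.inD A A)).symm) ≪≫
      Shriek.lbcShift _ 0 ≪≫
      (CategoryTheory.shiftFunctorZero (Dual.D (Localization.AtPrime p.asIdeal)) ℤ).app _).symm
    (DualCx.isDualizing_self n)⟩

variable {A : Type u} [CommRing A] {X : Scheme.{u}} (j : Spec (CommRingCat.of A) ⟶ X) [IsOpenImmersion j]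
  [PreservesFiniteLimits (Scheme.Modules.restrictFunctor j)]
  [PreservesFiniteLimits (tilde.functor (CommRingCat.of A))]

/-- The structure sheaf in an affine chart. -/
theorem nonempty_restrict_structureModule :
    Nonempty ((DCoh.restrictD j).obj (DCoh.inD X (Coh.structureModule X)) ≅
      (DCoh.tildeD (CommRingCat.of A)).obj (Dual.inD A A)) :=
  ⟨((Scheme.Modules.restrictFunctor j).mapDerivedCategorySingleFunctor 0).app _ ≪≫
    (DerivedCategory.singleFunctor (Spec (CommRingCat.of A)).Modules 0).mapIso
      (Scheme.Modules.restrictUnitIso j ≪≫ (AlgebraicGeometry.tildeSelf (R := CommRingCat.of A)).symm) ≪≫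
    (((tilde.functor (CommRingCat.of A)).mapDerivedCategorySingleFunctor 0).app (ModuleCat.of A A)).symm⟩

end Groth.Agent.DualSch
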