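import Groth.Prelude.Def_DualSch
import Groth.Agent.DQCoh.AffinePerf
import Groth.Agent.DualCx.Apps
import Groth.Agent.CMChart.Scheme
import Groth.Agent.Goren.Equiv

/-!
# Stalks of the cohomology of a dualizing complex on a scheme
-/

set_option backward.isDefEq.respectTransparency false
set_option backward.isDefEq.respectTransparency.types false
set_option linter.style.haveILetI false
set_option autoImplicit false

universe u

open CategoryTheory CategoryTheory.Limits AlgebraicGeometry

attribute [local instance] HasDerivedCategory.standard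

namespace Groth.Agent.DualSch

variable {A : Type u} [CommRing A]

/-- A module over a bundled ring and the stalk of its tilde. -/
theorem nontrivial_tilde_stalk_iff' {R : CommRingCat.{u}} (M : ModuleCat.{u} R) (q : PrimeSpectrum R) :
    Nontrivial ((tilde M).presheaf.stalk q) ↔ Nontrivial (LocalizedModule q.asIdeal.primeCompl M) :=
  ((IsLocalizedModule.iso q.asIdeal.primeCompl
    (tilde.toStalk M q).hom).toEquiv.nontrivial_congr).symm

/-- A module and the stalk of its tilde. -/
theorem nontrivial_tilde_stalk_iff (M : ModuleCat.{u} A) (q : PrimeSpectrum A) :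
    Nontrivial ((tilde (R := CommRingCat.of A) M).presheaf.stalk (show ↥(Spec (CommRingCat.of A)) from q)) ↔
      Nontrivial (LocalizedModule q.asIdeal.primeCompl M) :=
  nontrivial_tilde_stalk_iff' (R := CommRingCat.of A) M q

variable {X : Scheme.{u}} (j : Spec (CommRingCat.of A) ⟶ X) [IsOpenImmersion j]

/-- The stalk of a module and of its restriction. -/
theorem nontrivial_restrict_stalk_iff (M : X.Modules) (q : ↥(Spec (CommRingCat.of A))) :
    Nontrivial (((Scheme.Modules.restrictFunctor j).obj M).presheaf.stalk q) ↔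
      Nontrivial (M.presheaf.stalk (j q)) :=
  ((Scheme.Modules.restrictStalkNatIso j q).app M).addCommGroupIsoToAddEquiv.toEquiv.nontrivial_congr

/-- Isomorphic modules have isomorphic stalks. -/
theorem nontrivial_stalk_congr {Y : Scheme.{u}} {M N : Y.Modules} (e : M ≅ N) (y : Y) :
    Nontrivial (M.presheaf.stalk y) ↔ Nontrivial (N.presheaf.stalk y) :=
  ((Scheme.Modules.toPresheaf Y ⋙ TopCat.Presheaf.stalkFunctor _ y).mapIso e
    ).addCommGroupIsoToAddEquiv.toEquiv.nontrivial_congr

variable [PreservesFiniteLimits (Scheme.Modules.restrictFunctor j)]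
  [PreservesFiniteLimits (tilde.functor (CommRingCat.of A))]

/-- The cohomology sheaves of a complex with chart `ω`. -/
theorem nonempty_restrict_HD {K : DCoh.D X} {ω : Dual.D A}
    (e : (DCoh.restrictD j).obj K ≅ (DCoh.tildeD (CommRingCat.of A)).obj ω) (i : ℤ) :
    Nonempty ((Scheme.Modules.restrictFunctor j).obj (DCoh.HD K i) ≅
      tilde ((DerivedCategory.homologyFunctor (ModuleCat.{u} A) i).obj ω)) :=
  ⟨((DQCoh.homologyDerIso (Scheme.Modules.restrictFunctor j) i).app K).symm ≪≫
    (DerivedCategory.homologyFunctor (Spec (CommRingCat.of A)).Modules i).mapIso e ≪≫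
    (DQCoh.homologyDerIso (tilde.functor (CommRingCat.of A)) i).app ω⟩

/-- Nonvanishing of a stalk of `Hⁱ(K)` in terms of the chart. -/
theorem nontrivial_HD_stalk_iff {K : DCoh.D X} {ω : Dual.D A}
    (e : (DCoh.restrictD j).obj K ≅ (DCoh.tildeD (CommRingCat.of A)).obj ω) (i : ℤ) (q : PrimeSpectrum A) :
    Nontrivial ((DCoh.HD K i).presheaf.stalk (j q)) ↔
      Nontrivial (LocalizedModule q.asIdeal.primeCompl (Dual.HD A ω i)) := by
  obtain ⟨f⟩ := nonempty_restrict_HD j e i
  exact ((nontrivial_restrict_stalk_iff j (DCoh.HD K i) q).symm.trans (nontrivial_stalk_congr f _)).trans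
    (nontrivial_tilde_stalk_iff _ q)

omit [PreservesFiniteLimits (Scheme.Modules.restrictFunctor j)]
  [PreservesFiniteLimits (tilde.functor (CommRingCat.of A))]

/-- The local ring of a scheme at a point of an affine chart. -/
theorem nonempty_stalk_ringEquiv (q : PrimeSpectrum A) :
    Nonempty (X.presheaf.stalk (j q) ≃+* Localization.AtPrime q.asIdeal) :=
  ⟨(asIso (j.stalkMap q)).commRingCatIsoToRingEquiv.trans
    (StructureSheaf.stalkIso (CommRingCat.of A) q).toRingEquiv.symm⟩

theorem cm_stalk_iff (q : PrimeSpectrum A) :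
    LocCoh.IsCohenMacaulayLocalRing (X.presheaf.stalk (j q)) ↔
      LocCoh.IsCohenMacaulayLocalRing (Localization.AtPrime q.asIdeal) := by
  obtain ⟨e⟩ := nonempty_stalk_ringEquiv j q
  exact ⟨fun h => @CMChart.isCohenMacaulayLocalRing_of_ringEquiv _ _ _ _ e h,
    fun h => @CMChart.isCohenMacaulayLocalRing_of_ringEquiv _ _ _ _ e.symm h⟩

theorem gorenstein_stalk_iff (q : PrimeSpectrum A) :
    LocCoh.IsGorensteinLocalRing (X.presheaf.stalk (j q)) ↔
      LocCoh.IsGorensteinLocalRing (Localization.AtPrime q.asIdeal) := by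
  obtain ⟨e⟩ := nonempty_stalk_ringEquiv j q
  exact Goren.gorenstein_equiv_iff e

/-- Openness can be tested on affine charts. -/
theorem isOpen_of_charts {Y : Scheme.{u}} (P : Y → Prop)
    (h : ∀ (B : Type u) [CommRing B] (l : Spec (CommRingCat.of B) ⟶ Y) [IsOpenImmersion l],
      IsOpen {q : ↥(Spec (CommRingCat.of B)) | P (l q)}) :
    IsOpen {y : Y | P y} := by
  refine isOpen_iff_forall_mem_open.2 fun y hy => ?_
  obtain ⟨R, l, hl, hly, -⟩ := Scheme.exists_affine_mem_range_and_range_subset (U := (⊤ : Y.Opens)) (x := y) trivial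
  obtain ⟨q, rfl⟩ := hly
  exact ⟨l '' {q | P (l q)}, by rintro _ ⟨q', hq', rfl⟩; exact hq', l.isOpenEmbedding.isOpenMap _ (h R l),
    ⟨q, hy, rfl⟩⟩

end Groth.Agent.DualSch
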