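import Groth.Agent.DualSch.Lowest
import Groth.Agent.RefStalk.Codim
import Groth.Agent.RefStalk.Refl
import Groth.Agent.RefStalk.Extend
import Groth.Agent.QC.SpecFT
import Groth.Agent.K0Coh.Basic

/-!
Reflexivity of the dualizing sheaf of a normal scheme.
-/

set_option backward.isDefEq.respectTransparency false
set_option backward.isDefEq.respectTransparency.types false
set_option linter.style.haveILetI false
set_option autoImplicit false
set_option maxHeartbeats 1000000

universe u

open CategoryTheory CategoryTheory.Limits AlgebraicGeometry TopologicalSpace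

attribute [local instance] HasDerivedCategory.standard

namespace Groth.Agent.DualSch

variable {X : Scheme.{u}}

/-- A connected Noetherian scheme whose local rings are domains is irreducible. -/
theorem isIntegral_of_domain_stalks [IsNoetherian X] [ConnectedSpace X]
    (h : ∀ x : X, IsDomain (X.presheaf.stalk x)) : IsIntegral X := by
  haveI := h
  haveI : IsReduced X := isReduced_of_isReduced_stalk _
  let g : X → X := fun z => X.fromSpecStalk z (⟨⊥, Ideal.isPrime_bot⟩ : PrimeSpectrum (X.presheaf.stalk z))
  have hg' : ∀ z y, y ⤳ z → g z ⤳ y := fun z y hy => by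
    obtain ⟨p, rfl⟩ : y ∈ Set.range (X.fromSpecStalk z) := by rwa [Scheme.range_fromSpecStalk]
    exact ((PrimeSpectrum.le_iff_specializes _ p).1 bot_le).map (X.fromSpecStalk z).continuous
  have hmem : ∀ Z ∈ irreducibleComponents ↥X, ∀ z ∈ Z, Z = closure {g z} := fun Z hZ z hz => by
    obtain ⟨η, hη⟩ := QuasiSober.sober hZ.1 (isClosed_of_mem_irreducibleComponents Z hZ)
    have h1 : Z ⊆ closure {g z} := by
      rw [← hη.def]
      exact closure_minimal (Set.singleton_subset_iff.2 (specializes_iff_mem_closure.1 (hg' z η (hη.specializes hz))))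
        isClosed_closure
    exact Set.Subset.antisymm h1 (hZ.2 isIrreducible_singleton.closure h1)
  obtain ⟨x₀⟩ : Nonempty X := inferInstance
  have hZ₀ := irreducibleComponent_mem_irreducibleComponents x₀
  let Z₀ := irreducibleComponent x₀
  have hclopen : IsClopen Z₀ := by
    refine ⟨isClosed_irreducibleComponent, isClosed_compl_iff.1 ?_⟩
    have hc : Z₀ᶜ = ⋃ Z ∈ irreducibleComponents ↥X \ {Z₀}, Z := by
      ext y
      simp only [Set.mem_compl_iff, Set.mem_iUnion, Set.mem_sdiff, Set.mem_singleton_iff, exists_prop]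
      refine ⟨fun hy => ⟨irreducibleComponent y, ⟨irreducibleComponent_mem_irreducibleComponents y, fun he => ?_⟩,
        mem_irreducibleComponent⟩, ?_⟩
      · exact hy (he ▸ mem_irreducibleComponent)
      · rintro ⟨Z, ⟨hZ, hne⟩, hyZ⟩ hy
        exact hne ((hmem Z hZ y hyZ).trans (hmem Z₀ hZ₀ y hy).symm)
    rw [hc]
    exact ((NoetherianSpace.finite_irreducibleComponents).subset Set.sdiff_subset).isClosed_biUnion fun Z hZ =>
      isClosed_of_mem_irreducibleComponents Z hZ.1
  haveI : IrreducibleSpace X := by
    rw [irreducibleSpace_def, Set.top_eq_univ, ← hclopen.eq_univ ⟨x₀, mem_irreducibleComponent⟩]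
    exact isIrreducible_irreducibleComponent
  exact isIntegral_of_irreducibleSpace_of_isReduced X

variable [∀ (U : Scheme.{u}) (j : U ⟶ X) [IsOpenImmersion j], PreservesFiniteLimits (Scheme.Modules.restrictFunctor j)]
  [∀ (R : CommRingCat.{u}), PreservesFiniteLimits (tilde.functor R)]

/-- The cohomology sheaves of a dualizing complex are coherent. -/
theorem isCoh_HD {K : DCoh.D X} (hK : Dual2.IsDualizingSch X K) (i : ℤ) : Coh.IsCoh (DCoh.HD K i) := by
  refine ⟨QC.isQCoh_of_local fun x => ?_, QC.isFT_of_local fun x => ?_⟩ <;>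
  · obtain ⟨R, j, hj, hx, -⟩ := Scheme.exists_affine_mem_range_and_range_subset (U := (⊤ : X.Opens)) (x := x) trivial
    obtain ⟨ω, hω, ⟨e⟩⟩ := hK R j
    obtain ⟨f⟩ := nonempty_restrict_HD j e i
    haveI := hω.finite_cohomology i
    first
      | exact ⟨_, j, hj, hx, QC.isQCoh_of_iso f.symm (QC.isQCoh_tilde _)⟩
      | exact ⟨_, j, hj, hx, QC.isFT_of_epi f.inv (QC.isFT_tilde _)⟩

/-- The dualizing sheaf of a normal scheme is reflexive. -/
theorem isReflexive_stalk [IsNoetherian X] [ConnectedSpace X] (hX : Pi1.IsNormalScheme X) {K : DCoh.D X}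
    (hK : Dual2.IsDualizingSch X K) {n : ℤ} (hlt : ∀ i : ℤ, i < n → IsZero (DCoh.HD K i)) (x : X) :
    Module.IsReflexive (X.presheaf.stalk x) ((DCoh.HD K n).presheaf.stalk x) := by
  haveI := isIntegral_of_domain_stalks fun y : X => (hX y).1
  have hF := isCoh_HD hK n
  have htf : ∀ y : X, Module.IsTorsionFree (X.presheaf.stalk y) ((DCoh.HD K n).presheaf.stalk y) := fun y => by
    obtain ⟨w, hw, hl, ⟨e⟩⟩ := exists_local hK hlt y
    haveI := hw.isNoetherianRing
    haveI := isTorsionFree_lowest hw hl
    exact e.injective.moduleIsTorsionFree _ (map_smul e)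
  obtain ⟨U, hU⟩ := RefStalk.exists_free_locus hF
  have hU2 : ∀ y ∉ U, (2 : WithBot ℕ∞) ≤ ringKrullDim (X.presheaf.stalk y) := fun y hy => by
    by_contra hc
    exact hy ((hU y).2 (RefStalk.free_stalk_codim_one hX hF y (htf y) hc))
  refine ((RefStalk.isReflexive_iff hF).1 (RefStalk.isReflexive_of_depth hF U (fun y hy => ?_) (fun y hy => ?_)
    fun y hy => RefStalk.two_le_depth hX y (hU2 y hy))) x
  · haveI := (hU y).1 hy
    haveI := RegDual.finite_stalk hF y
    exact (inferInstance : Module.IsReflexive (X.presheaf.stalk y) ((DCoh.HD K n).presheaf.stalk y))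
  · let O := X.presheaf.stalk y
    let M := (DCoh.HD K n).presheaf.stalk y
    obtain ⟨w, hw, hl, ⟨e⟩⟩ := exists_local hK hlt y
    haveI := hw.isNoetherianRing
    have h2 := FibDepth.hasSk_congr e.symm 2 (hasSk_two_lowest hw hl) (IsLocalRing.maximalIdeal O)
    haveI := RegDual.finite_stalk hF y
    have hd := (DualCx.depth_eq_localized (A := O) M).symm
    have hs := DualCx.supportDim_eq_localized (A := O) M
    replace h2 : min ((2 : ℕ) : WithBot ℕ∞) (Module.supportDim O M) ≤ ((LocCoh.depth O M : ℕ∞) : WithBot ℕ∞) := by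
      rw [← hd, ← hs]
      exact h2
    haveI := RegDual.finite_stalk hF y
    haveI : Nontrivial M := by
      rw [← not_subsingleton_iff_nontrivial]
      intro hsub
      exact hy ((hU y).2 (Module.Free.of_subsingleton O M))
    haveI := (hX y).1
    haveI := htf y
    have hsupp : Module.supportDim O M = ringKrullDim O := by
      refine (Module.supportDim_eq_ringKrullDim_quotient_annihilator O M).trans ?_
      have h0 : Module.annihilator O M = ⊥ := (Submodule.eq_bot_iff _).2 fun a ha => by
        obtain ⟨v, hv⟩ := exists_ne (0 : M)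
        by_contra ha0
        exact hv ((smul_eq_zero.1 (Module.mem_annihilator.1 ha v)).resolve_left ha0)
      rw [h0]
      exact ringKrullDim_eq_of_ringEquiv (RingEquiv.quotientBot O)
    rw [hsupp, Nat.cast_ofNat, min_eq_left (hU2 y hy)] at h2
    exact WithBot.coe_le_coe.1 h2

end Groth.Agent.DualSch
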