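import Groth.Agent.DualSch.Glue
import Groth.Agent.DualCx.Canonical
import Groth.Agent.DualCx.GorCriterion
import Groth.Agent.LocFree.Props
import Groth.Agent.Shriek.GorFib
import Groth.Agent.RegDual.Scheme

/-!
The dualizing sheaf at a point.
-/

set_option backward.isDefEq.respectTransparency false
set_option backward.isDefEq.respectTransparency.types false
set_option linter.style.haveILetI false
set_option autoImplicit false
set_option maxHeartbeats 1000000

universe u

open CategoryTheory CategoryTheory.Limits AlgebraicGeometry TensorProduct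

attribute [local instance] HasDerivedCategory.standard

namespace Groth.Agent.DualSch

open Groth.Agent.DQCoh Groth.Agent.DualCx Groth.Agent.DualFlat

variable {X : Scheme.{u}}

/-- Sections of a module with chart `tilde H`. -/
theorem nonempty_sections_equiv {M : X.Modules} {W : X.Opens} (hW : IsAffineOpen W) (H : ModuleCat.{u} Γ(X, W))
    (e : (Scheme.Modules.restrictFunctor hW.fromSpec).obj M ≅ tilde H) :
    Nonempty (Γ(M, W) ≃ₗ[Γ(X, W)] H) := by
  let sec : Γ(M.restrict hW.fromSpec, ⊤) ≃ₗ[Γ(X, W)] Γ(M, W) :=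
    { QC.secEquiv hW M ⊤ (QC.image_fromSpec_top hW) with
      map_smul' := fun r s => by
        refine (QC.secEquiv_smul hW ⊤ (QC.image_fromSpec_top hW) r s).trans ?_
        rw [QC.resO_self, RingHom.id_apply]
        rfl }
  exact ⟨sec.symm.trans (((moduleSpecΓFunctor (R := Γ(X, W))).mapIso e).toLinearEquiv.trans
    ((tilde.toTildeΓNatIso (R := Γ(X, W))).app H).symm.toLinearEquiv)⟩

/-- Stalks of a module that is quasi-coherent on an affine open. -/
theorem exists_stalkMap_of_isLoc {M : X.Modules} {U : X.Opens} (hU : IsAffineOpen U) (hF : QC.IsLoc M U) {x : X}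
    (hx : x ∈ U) :
    letI := Module.compHom (M.presheaf.stalk x) (X.presheaf.germ U x hx).hom
    ∃ g : Γ(M, U) →ₗ[Γ(X, U)] M.presheaf.stalk x,
      IsLocalizedModule (hU.primeIdealOf ⟨x, hx⟩).asIdeal.primeCompl g := by
  letI := Module.compHom (M.presheaf.stalk x) (X.presheaf.germ U x hx).hom
  let g : Γ(M, U) →ₗ[Γ(X, U)] M.presheaf.stalk x :=
    { toFun := WeakAssLib.mgerm M hx
      map_add' := map_add _
      map_smul' := fun a s => WeakAssLib.mgerm_smul M hx a s }
  refine ⟨g, ⟨fun a => ?_, fun t => ?_, fun {s s'} hs => ?_⟩⟩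
  · rw [Module.End.isUnit_iff]
    exact (WeakAssLib.isUnit_germ hU hx a.2).smul_bijective
  · obtain ⟨a, s, ha, has⟩ := WeakAssLib.exists_germ hU hF hx t
    exact ⟨(s, ⟨a, ha⟩), has⟩
  · have h0 : WeakAssLib.mgerm M hx (s - s') = 0 := by
      rw [map_sub, sub_eq_zero]; exact hs
    obtain ⟨a, ha, has⟩ := (WeakAssLib.germ_eq_zero_iff hU hF hx _).1 h0
    exact ⟨⟨a, ha⟩, by
      change a • s = a • s'
      rw [← sub_eq_zero, ← smul_sub, has]⟩

variable [∀ (U : Scheme.{u}) (j : U ⟶ X) [IsOpenImmersion j], PreservesFiniteLimits (Scheme.Modules.restrictFunctor j)]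
  [∀ (R : CommRingCat.{u}), PreservesFiniteLimits (tilde.functor R)]

/-- The bottom cohomology of a dualizing complex at a point. -/
theorem exists_local {K : DCoh.D X} (hK : Dual2.IsDualizingSch X K) {n : ℤ}
    (hlt : ∀ i : ℤ, i < n → IsZero (DCoh.HD K i)) (x : X) :
    ∃ w : Dual.D (X.presheaf.stalk x), Dual.IsDualizing (X.presheaf.stalk x) w ∧
      (∀ i : ℤ, i < n → Subsingleton (Dual.HD (X.presheaf.stalk x) w i)) ∧
      Nonempty ((DCoh.HD K n).presheaf.stalk x ≃ₗ[X.presheaf.stalk x] Dual.HD (X.presheaf.stalk x) w n) := by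
  obtain ⟨W, hW, hxW, -⟩ := exists_isAffineOpen_mem_and_subset (U := (⊤ : X.Opens)) (x := x) trivial
  haveI := fun (S T : Type u) [CommRing S] [CommRing T] (φ : S →+* T) => DRingKP.hasLBaseChange φ
  obtain ⟨ω, hω, ⟨eω⟩⟩ := hK Γ(X, W) (IsAffineOpen.fromSpec hW)
  haveI := hω.isNoetherianRing
  let O := X.presheaf.stalk x
  letI := (X.presheaf.germ W x hxW).hom.toAlgebra
  haveI : IsLocalization.AtPrime O (hW.primeIdealOf ⟨x, hxW⟩).asIdeal := hW.isLocalization_stalk ⟨x, hxW⟩
  let S := (hW.primeIdealOf ⟨x, hxW⟩).asIdeal.primeCompl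
  haveI : Module.Flat Γ(X, W) O := IsLocalization.flat O S
  haveI : PreservesFiniteLimits (DualCx.ext (algebraMap Γ(X, W) O)) := DualCx.preservesFiniteLimits_ext
  let w : Dual.D O := (DRing.LBaseChange (algebraMap Γ(X, W) O)).obj ω
  have hHD : ∀ i, Nonempty (O ⊗[Γ(X, W)] Dual.HD Γ(X, W) ω i ≃ₗ[O] Dual.HD O w i) := fun i =>
    ⟨(tens O (Dual.HD Γ(X, W) ω i)).symm.trans (((locHD (algebraMap Γ(X, W) O) ω i).toLinearEquiv).symm.trans
      ((DerivedCategory.homologyFunctor (ModuleCat.{u} O) i).mapIso (lBaseChangeObjIso _ ω).symm).toLinearEquiv)⟩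
  refine ⟨w, DualCx.Loc.isDualizing_lBaseChange (B := O) S hω, fun i hi => ?_, ?_⟩
  · obtain ⟨f⟩ := nonempty_restrict_HD (IsAffineOpen.fromSpec hW) eω i
    obtain ⟨e⟩ := nonempty_sections_equiv hW _ f
    obtain ⟨eh⟩ := hHD i
    haveI : Subsingleton (Dual.HD Γ(X, W) ω i) := by
      have h0 := (Scheme.Modules.toPresheaf X).map_isZero (hlt i hi)
      haveI : Subsingleton Γ(DCoh.HD K i, W) :=
        AddCommGrpCat.subsingleton_of_isZero (h0.obj (Opposite.op W))
      exact e.symm.toEquiv.subsingleton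
    exact eh.symm.toEquiv.subsingleton
  · obtain ⟨f⟩ := nonempty_restrict_HD (IsAffineOpen.fromSpec hW) eω n
    obtain ⟨e⟩ := nonempty_sections_equiv hW _ f
    obtain ⟨eh⟩ := hHD n
    have hq : Coh.IsQCoh ((Scheme.Modules.restrictFunctor (IsAffineOpen.fromSpec hW)).obj (DCoh.HD K n)) :=
      QC.isQCoh_of_iso f.symm (QC.isQCoh_tilde _)
    have hloc : QC.IsLoc (DCoh.HD K n) W := (QC.isLoc_iff_isQCoh hW).2 hq
    letI : Module Γ(X, W) ((DCoh.HD K n).presheaf.stalk x) :=
      Module.compHom ((DCoh.HD K n).presheaf.stalk x) (X.presheaf.germ W x hxW).hom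
    obtain ⟨g, hg⟩ := exists_stalkMap_of_isLoc hW hloc hxW
    haveI : IsScalarTower Γ(X, W) O ((DCoh.HD K n).presheaf.stalk x) :=
      IsScalarTower.of_algebraMap_smul fun _ _ => rfl
    have hbc : IsBaseChange O g := (isLocalizedModule_iff_isBaseChange S O g).1 hg
    exact ⟨hbc.equiv.symm.trans ((LinearEquiv.baseChange Γ(X, W) O _ _ e).trans eh)⟩

end Groth.Agent.DualSch
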