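import Groth.Agent.DualSch.DualVanish
import Groth.Agent.DerPerf.PseudoCoh
import Groth.Agent.ProjForm.Stupid
import Groth.Agent.FittLib.Free
import Groth.Agent.H4Easy.Batch8

/-!
Biduality on schemes: `C ⟶ Hom(Hom(C, I), I)` for coherent `C` and dualizing `I`.
-/

set_option autoImplicit false
set_option backward.isDefEq.respectTransparency false
set_option backward.isDefEq.respectTransparency.types false
set_option linter.style.haveILetI false
set_option linter.unusedSectionVars false
set_option maxHeartbeats 1000000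

universe u

open CategoryTheory Limits AlgebraicGeometry HomologicalComplex

attribute [local instance] HasDerivedCategory.standard

namespace Groth.Agent.DualSch.Bi

open Groth.Agent.DQCoh (RD rdComp rdCongr rdIso)
open Groth.Agent.KFlat Groth.Agent.ProjForm
open Groth.Agent.RHomCx (GE gmap gSC bd nonempty_splitting_gSC shortExact_gSC)

/-- cones of maps which are isomorphisms in two degrees -/
theorem isZero_cone {C : Type (u + 1)} [Category.{u} C] [Abelian C] {K L : CochainComplex C ℤ} (f : K ⟶ L) (k : ℤ)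
    (h : IsIso (homologyMap f k)) (h' : IsIso (homologyMap f (k + 1))) :
    IsZero ((CochainComplex.mappingCone f).homology k) := by
  let T := DerivedCategory.Q.mapTriangle.obj (CochainComplex.mappingCone.triangle f)
  have hT : T ∈ distTriang _ := DerivedCategory.mappingCone_triangle_distinguished f
  have e : ∀ i, IsIso (homologyMap f i) → IsIso ((DerivedCategory.homologyFunctor C i).map T.mor₁) := fun i hi =>
    (NatIso.isIso_map_iff (DerivedCategory.homologyFunctorFactors C i) f).2 hi
  haveI := e k h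
  haveI := e (k + 1) h'
  refine IsZero.of_iso ?_ ((DerivedCategory.homologyFunctorFactors C k).app _).symm
  exact (DerivedCategory.HomologySequence.exact₃ T hT k (k + 1) rfl).isZero_of_both_zeros
    (by
      change (DerivedCategory.homologyFunctor C k).map T.mor₂ = 0
      rw [← cancel_epi ((DerivedCategory.homologyFunctor C k).map T.mor₁), comp_zero, ← Functor.map_comp,
        Pretriangulated.comp_distTriang_mor_zero₁₂ T hT, Functor.map_zero])
    (by
      change DerivedCategory.HomologySequence.δ T k (k + 1) rfl = 0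
      rw [← cancel_mono ((DerivedCategory.homologyFunctor C (k + 1)).map T.mor₁), zero_comp]
      exact DerivedCategory.HomologySequence.δ_comp T hT k (k + 1) rfl)

variable {X : Scheme.{u}}
  [∀ (U : Scheme.{u}) (j : U ⟶ X) [IsOpenImmersion j], PreservesFiniteLimits (Scheme.Modules.restrictFunctor j)]
  [∀ (R : CommRingCat.{u}), PreservesFiniteLimits (tilde.functor R)]
  (I : CochainComplex X.Modules ℤ) [I.IsKInjective]
  {A : Type u} [CommRing A] {j : Spec (CommRingCat.of A) ⟶ X} [IsOpenImmersion j]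
  {ω : Dual.D A} (hω : Dual.IsDualizing A ω) (R : DualCx.Rep ω)
  (e : (RD j).obj (DerivedCategory.Q.obj I) ≅ (DCoh.tildeD (CommRingCat.of A)).obj ω)

/-- cohomology over the chart -/
theorem nonempty_rC_homology (C : CochainComplex X.Modules ℤ) (k : ℤ) :
    Nonempty ((rC j C).homology k ≅ (Scheme.Modules.restrictFunctor j.opensRange.ι).obj (C.homology k)) :=
  ⟨(hdQ _ k).symm ≪≫ (DerivedCategory.homologyFunctor _ k).mapIso (rdIso j.opensRange.ι C).symm ≪≫
    (DQCoh.homologyDerIso (Scheme.Modules.restrictFunctor j.opensRange.ι) k).app _ ≪≫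
    (Scheme.Modules.restrictFunctor j.opensRange.ι).mapIso (hdQ C k)⟩

theorem isZero_rC_of_isZero (C : CochainComplex X.Modules ℤ) (k : ℤ) (h : IsZero (C.homology k)) :
    IsZero ((rC j C).homology k) := by
  obtain ⟨d⟩ := nonempty_rC_homology (j := j) C k
  exact ((Scheme.Modules.restrictFunctor j.opensRange.ι).map_isZero h).of_iso d

/-- cohomology of a shift over the chart -/
theorem nonempty_rC_shift (C : CochainComplex X.Modules ℤ) (k l : ℤ) (h : 1 + k = l) :
    Nonempty ((rC j (C⟦(1 : ℤ)⟧)).homology k ≅ (rC j C).homology l) := by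
  obtain ⟨d⟩ := nonempty_rC_homology (j := j) (C⟦(1 : ℤ)⟧) k
  obtain ⟨d'⟩ := nonempty_rC_homology (j := j) C l
  exact ⟨d ≪≫ (Scheme.Modules.restrictFunctor j.opensRange.ι).mapIso
    ((((HomologicalComplex.homologyFunctor X.Modules (ComplexShape.up ℤ) 0).shiftIso 1 k l h)).app C) ≪≫ d'.symm⟩

section Sequence

variable {S : ShortComplex (CochainComplex X.Modules ℤ)}
  (σ : ∀ n, (S.map (eval X.Modules (ComplexShape.up ℤ) n)).Splitting)

include σ in
theorem shortExact_rC : (S.map (DCoh.restrictCx j.opensRange)).ShortExact :=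
  shortExact_of_splitting fun n => (σ n).map (Scheme.Modules.restrictFunctor j.opensRange.ι)

end Sequence

/-- biduality in degree `i` over the chart -/
def GoodAt (j : Spec (CommRingCat.of A) ⟶ X) [IsOpenImmersion j] (C : CochainComplex X.Modules ℤ) (i : ℤ) : Prop :=
  IsIso (homologyMap ((DCoh.restrictCx j.opensRange).map (bd I C)) i)

/-- comparison along a map with small cone -/
theorem goodAt_cone {B C : CochainComplex X.Modules ℤ} (a : B ⟶ C) (i i' : ℤ) (hi : i' + 1 = i)
    (h₁ : IsZero ((rC j (CochainComplex.mappingCone a)).homology i'))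
    (h₂ : IsZero ((rC j (CochainComplex.mappingCone a)).homology i))
    (h₁' : IsZero ((rC j ((GE ((GE (CochainComplex.mappingCone a)).obj I)).obj I)).homology i'))
    (h₂' : IsZero ((rC j ((GE ((GE (CochainComplex.mappingCone a)).obj I)).obj I)).homology i)) :
    GoodAt I j (B⟦(1 : ℤ)⟧) i' ↔ GoodAt I j C i := by
  let S := coneSC a
  let T := gSC (gSC S I) I
  let φ : S ⟶ T :=
    { τ₁ := bd I S.X₁
      τ₂ := bd I S.X₂
      τ₃ := bd I S.X₃
      comm₁₂ := (RHomCx.bd_natural I S.f).symm
      comm₂₃ := (RHomCx.bd_natural I S.g).symm }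
  have hS := shortExact_rC (j := j) (coneSplitting a)
  have hT := shortExact_rC (j := j) (S := T)
    fun n => (nonempty_splitting_gSC (fun m => (nonempty_splitting_gSC (coneSplitting a) I m).some) I n).some
  have hδS := hS.isIso_δ i' i hi h₁ h₂
  have hδT := hT.isIso_δ i' i hi h₁' h₂'
  have h := HomologicalComplex.HomologySequence.δ_naturality
    ((DCoh.restrictCx j.opensRange).mapShortComplex.map φ) hS hT i' i hi
  constructor
  · intro hg
    have hc : IsIso (hS.δ i' i hi ≫ homologyMap ((DCoh.restrictCx j.opensRange).mapShortComplex.map φ).τ₁ i) :=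
      h.symm ▸ @IsIso.comp_isIso _ _ _ _ _ _ _ hg hδT
    exact @IsIso.of_isIso_comp_left _ _ _ _ _ (hS.δ i' i hi) _ hδS hc
  · intro hg
    have hc : IsIso (homologyMap ((DCoh.restrictCx j.opensRange).mapShortComplex.map φ).τ₃ i' ≫ hT.δ i' i hi) :=
      h ▸ @IsIso.comp_isIso _ _ _ _ _ _ _ hδS hg
    exact @IsIso.of_isIso_comp_right _ _ _ _ _ _ (hT.δ i' i hi) hδT hc

/-- acyclic complexes stay acyclic over the chart -/
theorem isZero_rC_of_acyclic {C : CochainComplex X.Modules ℤ} (h : C.Acyclic) (k : ℤ) :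
    IsZero ((rC j C).homology k) :=
  isZero_rC_of_isZero C k (h k).isZero_homology

theorem goodAt_shift (C : CochainComplex X.Modules ℤ) (i i' : ℤ) (hi : i' + 1 = i) :
    GoodAt I j (C⟦(1 : ℤ)⟧) i' ↔ GoodAt I j C i := by
  have h1 : (CochainComplex.mappingCone (𝟙 C)).Acyclic := mappingCone_acyclic _
  have h2 := RHomCx.acyclic_GE_of_acyclic' (RHomCx.acyclic_GE_of_acyclic' h1 I) I
  exact goodAt_cone I (𝟙 C) i i' hi (isZero_rC_of_acyclic h1 _) (isZero_rC_of_acyclic h1 _)
    (isZero_rC_of_acyclic h2 _) (isZero_rC_of_acyclic h2 _)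

theorem goodAt_iff {B C : CochainComplex X.Modules ℤ} (a : B ⟶ C) (i : ℤ)
    (h : ∀ k, (k = i - 1 ∨ k = i) → IsZero ((rC j (CochainComplex.mappingCone a)).homology k))
    (h' : ∀ k, (k = i - 1 ∨ k = i) →
      IsZero ((rC j ((GE ((GE (CochainComplex.mappingCone a)).obj I)).obj I)).homology k)) :
    GoodAt I j B i ↔ GoodAt I j C i :=
  (goodAt_shift I B i (i - 1) (by omega)).symm.trans
    (goodAt_cone I a i (i - 1) (by omega) (h _ (Or.inl rfl)) (h _ (Or.inr rfl)) (h' _ (Or.inl rfl)) (h' _ (Or.inr rfl)))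

theorem goodAt_of_qisOn {C : CochainComplex X.Modules ℤ} (h : QisOn j.opensRange (bd I C)) (i : ℤ) :
    GoodAt I j C i := by
  haveI := (RHomCx.qisOn_iff_quasiIso_restrictCx _ _).1 h
  exact inferInstanceAs (IsIso (homologyMap ((DCoh.restrictCx j.opensRange).map (bd I C)) i))

variable [IsLocallyNoetherian X]

/-- coherent cohomology of a cone over the chart -/
theorem isCoh_rC_cone {B C : CochainComplex X.Modules ℤ} (a : B ⟶ C)
    (hB : ∀ k, Coh.IsCoh ((rC j B).homology k)) (hC : ∀ k, Coh.IsCoh ((rC j C).homology k)) (k : ℤ) :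
    Coh.IsCoh ((rC j (CochainComplex.mappingCone a)).homology k) := by
  have hB' : ∀ l, Coh.IsCoh ((rC j (B⟦(1 : ℤ)⟧)).homology l) := fun l => by
    obtain ⟨d⟩ := nonempty_rC_shift (j := j) B l (1 + l) rfl
    exact K0Coh.isCoh_of_iso d.symm (hB _)
  have hT := shortExact_rC (j := j) (coneSplitting a)
  exact RHomCx.isCoh_of_exact₅ _ _ _ _ _ _ _ (hT.homology_exact₁ (k - 1) k (by simp)) (hT.homology_exact₂ k)
    (hT.homology_exact₃ k (k + 1) (by simp)) (hB' (k - 1)) (hC k) (hB' k) (hC (k + 1))

/-- finiteness of the cohomology of a complex of finite modules -/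
theorem finite_homology [IsNoetherianRing A] (P : CochainComplex (ModuleCat.{u} A) ℤ)
    (hP : ∀ p, Module.Finite A (P.X p)) (k : ℤ) : Module.Finite A (P.homology k) := by
  haveI := hP k
  haveI : Module.Finite A (P.cycles k) :=
    Module.Finite.of_injective (P.iCycles k).hom ((ModuleCat.mono_iff_injective _).1 inferInstance)
  exact Module.Finite.of_surjective (P.homologyπ k).hom ((ModuleCat.epi_iff_surjective _).1 inferInstance)

include hω R e in
/-- **biduality for coherent complexes bounded above** -/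
theorem goodAt_boundedAbove (h0 : QisOn j.opensRange (bd I (RHomCx.O₀ X))) (C : CochainComplex X.Modules ℤ) (c : ℤ)
    (hc : ∀ k, c < k → IsZero (C.homology k)) (hcoh : ∀ k, Coh.IsCoh (C.homology k)) (i : ℤ) :
    GoodAt I j C i := by
  haveI := hω.isNoetherianRing
  let SA := Spec (CommRingCat.of A)
  let U := j.opensRange
  have hC : ∀ k, Coh.IsCoh ((rC j C).homology k) := fun k => by
    obtain ⟨d⟩ := nonempty_rC_homology (j := j) C k
    exact K0Coh.isCoh_of_iso d.symm (DCohShriek.isCoh_restrictFunctor _ (hcoh k))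
  -- the chart of `C`
  let Rj := (Scheme.Modules.restrictFunctor j).mapHomologicalComplex (ComplexShape.up ℤ)
  let eQ : (RD j).obj (DerivedCategory.Q.obj C) ≅ DerivedCategory.Q.obj (Rj.obj C) := rdIso j C
  have hHD : ∀ k, Nonempty (DCoh.HD ((RD j).obj (DerivedCategory.Q.obj C)) k ≅
      (Scheme.Modules.restrictFunctor j).obj (C.homology k)) := fun k =>
    ⟨(DQCoh.homologyDerIso (Scheme.Modules.restrictFunctor j) k).app _ ≪≫
      (Scheme.Modules.restrictFunctor j).mapIso (hdQ C k)⟩
  obtain ⟨hfull, hfaith, hess⟩ := DQCoh.tildeD_affine (R := CommRingCat.of A)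
  obtain ⟨G, ⟨eG⟩⟩ := (hess ((RD j).obj (DerivedCategory.Q.obj C))).1 fun k => by
    obtain ⟨d⟩ := hHD k
    exact QC.isQCoh_of_iso d.symm (QC.isQCoh_restrict j (hcoh k).1)
  have hG : ∀ k, Nonempty (tilde ((DerivedCategory.homologyFunctor (ModuleCat.{u} A) k).obj G) ≅
      (Scheme.Modules.restrictFunctor j).obj (C.homology k)) := fun k => by
    obtain ⟨d⟩ := hHD k
    exact ⟨((DQCoh.homologyDerIso (tilde.functor (CommRingCat.of A)) k).app G).symm ≪≫
      (DerivedCategory.homologyFunctor _ k).mapIso eG ≪≫ d⟩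
  haveI hGle : G.IsLE c := (DerivedCategory.isLE_iff _ c).2 fun k hk => by
    obtain ⟨d⟩ := hG k
    refine (IsZero.iff_id_eq_zero _).2 ((tilde.functor (CommRingCat.of A)).map_injective ?_)
    exact (((Scheme.Modules.restrictFunctor j).map_isZero (hc k hk)).of_iso d).eq_of_src _ _
  have hGfin : ∀ k, Module.Finite A (Dual.HD A G k) := fun k => by
    obtain ⟨d⟩ := hG k
    exact (H4Easy.isFT_tilde_iff (CommRingCat.of A) _).1
      (K0Coh.isCoh_of_iso d.symm (DCohShriek.isCoh_restrictFunctor j (hcoh k))).2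
  obtain ⟨P, c', hPle, hP, ⟨eP⟩⟩ := DualCx.exists_freeRep G c hGfin
  haveI := hPle
  let tl := (tilde.functor (CommRingCat.of A)).mapHomologicalComplex (ComplexShape.up ℤ)
  let eC : DerivedCategory.Q.obj (tl.obj P) ≅ DerivedCategory.Q.obj (Rj.obj C) :=
    ((tilde.functor (CommRingCat.of A)).mapDerivedCategoryFactors.app P).symm ≪≫
      (DCoh.tildeD (CommRingCat.of A)).mapIso eP ≪≫ eG ≪≫ eQ
  obtain ⟨Z, u, s, hu, hs⟩ := exists_qisOn_to_kInj j (tl.obj P) C ⟨eC⟩
  haveI := hs
  -- truncation level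
  let m : ℤ := i - 2 - (R.b - R.a).toNat
  let E := Stupid.σ P (m - 1)
  let a := (ProjForm.eC j).map (tl.map (Stupid.ι P (m - 1))) ≫ u
  have hEz : ∀ k, k < m - 1 ∨ c' < k → IsZero (E.X k) := fun k hk => by
    by_cases h : m - 1 ≤ k
    · exact (P.isZero_of_isStrictlyLE c' k (by omega)).of_iso (eqToIso (if_pos h : Stupid.Xσ P (m - 1) k = P.X k))
    · exact Stupid.isZero_Xσ P (by omega)
  have hEf : ∀ k, Module.Finite A (E.X k) := fun k => by
    by_cases h : m - 1 ≤ k
    · haveI := (hP k).2
      have hX : E.X k = P.X k := if_pos h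
      rw [hX]
      infer_instance
    · have hz : IsZero (E.X k) := Stupid.isZero_Xσ P (show k < m - 1 by omega)
      haveI : Subsingleton (E.X k) := ModuleCat.subsingleton_of_isZero hz
      exact inferInstance
  obtain ⟨-, hgood⟩ := RHomCx.qisOn_bd_eC j I h0 (tl.obj E) (a := m - 1) (b := c')
    (fun k hk => (tilde.functor (CommRingCat.of A)).map_isZero (hEz k hk)) fun k h1 h2 => by
      rcases subsingleton_or_nontrivial A with hA | hA
      · exact ⟨0, ⟨(tilde.functor (CommRingCat.of A)).mapIso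
          (IsZero.iso (haveI := Module.subsingleton A (E.X k); ModuleCat.isZero_of_subsingleton _)
            (haveI := Module.subsingleton A (ULift.{u} (Fin 0) →₀ A); ModuleCat.isZero_of_subsingleton _)) ≪≫
          FittLib.tildeFreeIso (CommRingCat.of A) 0⟩⟩
      · haveI := (hP k).1
        haveI := (hP k).2
        refine ⟨Module.finrank A (P.X k), ⟨(tilde.functor (CommRingCat.of A)).mapIso
          (eqToIso (if_pos h1 : Stupid.Xσ P (m - 1) k = P.X k) ≪≫ LinearEquiv.toModuleIso
            ((Module.finBasis A (P.X k)).reindex Equiv.ulift.symm).repr) ≪≫ FittLib.tildeFreeIso (CommRingCat.of A) _⟩⟩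
  have hZ : ∀ k, IsIso (homologyMap ((DCoh.restrictCx U).map s) k) := fun k => by
    haveI : QuasiIso ((DCoh.restrictCx U).map s) :=
      (RHomCx.qisOn_iff_quasiIso_restrictCx U s).1 (qisOn_of_quasiIso U s)
    infer_instance
  have hZc : ∀ k, Coh.IsCoh ((rC j Z).homology k) := fun k =>
    haveI := hZ k
    K0Coh.isCoh_of_iso (asIso (homologyMap ((DCoh.restrictCx U).map s) k)) (hC k)
  have hEc : ∀ k, Coh.IsCoh ((rC j ((ProjForm.eC j).obj (tl.obj E))).homology k) := fun k => by
    let Qc := DerivedCategory.Q.obj ((ProjForm.eC j).obj (tl.obj E))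
    let d₁ : (RD j).obj Qc ≅ (DCoh.tildeD (CommRingCat.of A)).obj (DerivedCategory.Q.obj E) :=
      rdIso j _ ≪≫ DerivedCategory.Q.mapIso (restrictExtIso j (tl.obj E)).symm ≪≫
        ((tilde.functor (CommRingCat.of A)).mapDerivedCategoryFactors.app E).symm
    let d₂ : (RD U.ι).obj Qc ≅ (RD j.isoOpensRange.inv).obj ((RD j).obj Qc) :=
      (rdCongr (j.isoOpensRange_inv_comp).symm).app _ ≪≫ (rdComp _ _).app _
    let d₃ : (rC j ((ProjForm.eC j).obj (tl.obj E))).homology k ≅
        (Scheme.Modules.restrictFunctor j.isoOpensRange.inv).obj (tilde (E.homology k)) :=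
      (hdQ _ k).symm ≪≫ (DerivedCategory.homologyFunctor _ k).mapIso ((rdIso U.ι _).symm ≪≫ d₂) ≪≫
        (DQCoh.homologyDerIso (Scheme.Modules.restrictFunctor j.isoOpensRange.inv) k).app _ ≪≫
        (Scheme.Modules.restrictFunctor j.isoOpensRange.inv).mapIso
          ((DerivedCategory.homologyFunctor _ k).mapIso d₁ ≪≫
            (DQCoh.homologyDerIso (tilde.functor (CommRingCat.of A)) k).app _ ≪≫
            (tilde.functor (CommRingCat.of A)).mapIso ((DerivedCategory.homologyFunctorFactors _ k).app E))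
    haveI := finite_homology E hEf k
    exact K0Coh.isCoh_of_iso d₃.symm (DCohShriek.isCoh_restrictFunctor _ (ExtShX.isCoh_tilde (A := A) (E.homology k)))
  let K₀ := CochainComplex.mappingCone a
  have hmap : ∀ k, m ≤ k → IsIso (homologyMap ((DCoh.restrictCx U).map a) k) := fun k hk => by
    let f₀ := (DCoh.restrictCx U).map ((ProjForm.eC j).map (tl.map (Stupid.ι P (m - 1))))
    have hfi : ∀ l, m - 1 ≤ l → IsIso (f₀.f l) := fun l hl => by
      haveI : IsIso ((Stupid.ι P (m - 1)).f l) := by
        change IsIso (Stupid.inc P (m - 1) l)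
        rw [Stupid.inc, dif_pos hl]
        infer_instance
      exact inferInstanceAs (IsIso ((Scheme.Modules.restrictFunctor U.ι).map
        ((CxOX.extZero j).map ((tilde.functor (CommRingCat.of A)).map ((Stupid.ι P (m - 1)).f l)))))
    haveI : IsIso (homologyMap f₀ k) := by
      haveI : IsIso ((HomologicalComplex.shortComplexFunctor _ (ComplexShape.up ℤ) k).map f₀) := by
        haveI : IsIso ((HomologicalComplex.shortComplexFunctor _ (ComplexShape.up ℤ) k).map f₀).τ₁ :=
          hfi _ (by simp; omega)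
        haveI : IsIso ((HomologicalComplex.shortComplexFunctor _ (ComplexShape.up ℤ) k).map f₀).τ₂ := hfi _ (by omega)
        haveI : IsIso ((HomologicalComplex.shortComplexFunctor _ (ComplexShape.up ℤ) k).map f₀).τ₃ :=
          hfi _ (by simp; omega)
        exact ShortComplex.isIso_of_isIso _
      exact inferInstanceAs (IsIso (ShortComplex.homologyMap _))
    haveI : QuasiIso ((DCoh.restrictCx U).map u) := (RHomCx.qisOn_iff_quasiIso_restrictCx U u).1 hu
    simp only [a, Functor.map_comp, homologyMap_comp]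
    infer_instance
  have hz : ∀ k, m - 1 < k → IsZero ((rC j K₀).homology k) := fun k hk =>
    (isZero_cone ((DCoh.restrictCx U).map a) k (hmap k (by omega)) (hmap (k + 1) (by omega))).of_iso
      ((HomologicalComplex.homologyFunctor _ _ k).mapIso
        (CochainComplex.mappingCone.mapHomologicalComplexIso a (Scheme.Modules.restrictFunctor U.ι)))
  have hKc := isCoh_rC_cone (j := j) a hEc hZc
  have hDD : ∀ k, R.b - (R.a - (m - 1)) < k → IsZero ((rC j ((GE ((GE K₀).obj I)).obj I)).homology k) :=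
    isZero_GE_high I hω R e ((GE K₀).obj I) (R.a - (m - 1))
      (fun k hk => isZero_GE_low I hω R e K₀ (m - 1) hz k hk)
      (fun k => (isCoh_GE I hω R e K₀ (m - 1) hz hKc k).1)
  have hgZ : GoodAt I j Z i := (goodAt_iff I a i (fun k hk => hz k (by omega))
    fun k hk => hDD k (by omega)).1 (goodAt_of_qisOn I hgood i)
  have hnat := congrArg (fun t => homologyMap ((DCoh.restrictCx U).map t) i) (RHomCx.bd_natural I s)
  simp only [Functor.map_comp, homologyMap_comp] at hnat
  haveI := hZ i
  haveI := RHomCx.quasiIso_gmap s I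
  haveI hq := RHomCx.quasiIso_gmap ((gmap s).app I) I
  haveI : QuasiIso ((DCoh.restrictCx U).map ((gmap ((gmap s).app I)).app I)) :=
    (RHomCx.qisOn_iff_quasiIso_restrictCx U _).1 (qisOn_of_quasiIso U _)
  haveI : IsIso (homologyMap ((DCoh.restrictCx U).map (bd I Z)) i) := hgZ
  haveI : IsIso (homologyMap ((DCoh.restrictCx U).map (bd I C)) i ≫
      homologyMap ((DCoh.restrictCx U).map ((gmap ((gmap s).app I)).app I)) i) := by
    rw [← hnat]; infer_instance
  exact IsIso.of_isIso_comp_right _ (homologyMap ((DCoh.restrictCx U).map ((gmap ((gmap s).app I)).app I)) i)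

include hω R e in
/-- cohomology of a truncation -/
theorem truncLE_props (C : CochainComplex X.Modules ℤ) (hcoh : ∀ k, Coh.IsCoh (C.homology k)) (n : ℤ) :
    (∀ k, n < k → IsZero ((C.truncLE n).homology k)) ∧ (∀ k, Coh.IsCoh ((C.truncLE n).homology k)) ∧
      ∀ k, k < n → IsZero ((CochainComplex.mappingCone (C.ιTruncLE n)).homology k) := by
  have h1 : ∀ k, n < k → IsZero ((C.truncLE n).homology k) := fun k hk =>
    ShortComplex.isZero_homology_of_isZero_X₂ _ ((C.truncLE n).isZero_of_isStrictlyLE n k hk)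
  have h2 : ∀ k, k ≤ n → IsIso (homologyMap (C.ιTruncLE n) k) := fun k hk => by
    haveI := CochainComplex.quasiIsoAt_ιTruncLE C n k hk
    infer_instance
  refine ⟨h1, fun k => ?_, fun k hk => isZero_cone _ k (h2 k hk.le) (h2 (k + 1) (by omega))⟩
  by_cases hk : k ≤ n
  · haveI := h2 k hk
    exact K0Coh.isCoh_of_iso (asIso (homologyMap (C.ιTruncLE n) k)).symm (hcoh k)
  · exact K0Coh.isCoh_of_isZero (h1 k (by omega))

include hω R e in
/-- **biduality for coherent complexes** -/
theorem goodAt_coh (h0 : QisOn j.opensRange (bd I (RHomCx.O₀ X))) (C : CochainComplex X.Modules ℤ)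
    (hcoh : ∀ k, Coh.IsCoh (C.homology k)) (i : ℤ) : GoodAt I j C i := by
  let n : ℤ := i + 2 + (R.b - R.a).toNat
  obtain ⟨hT, hTc, hz⟩ := truncLE_props I hω R e C hcoh n
  have hrc : ∀ {D : CochainComplex X.Modules ℤ}, (∀ k, Coh.IsCoh (D.homology k)) →
      ∀ k, Coh.IsCoh ((rC j D).homology k) := fun {D} hD k => by
    obtain ⟨d⟩ := nonempty_rC_homology (j := j) D k
    exact K0Coh.isCoh_of_iso d.symm (DCohShriek.isCoh_restrictFunctor _ (hD k))
  let K₀ := CochainComplex.mappingCone (C.ιTruncLE n)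
  have hz' : ∀ k, k < n → IsZero ((rC j K₀).homology k) := fun k hk => isZero_rC_of_isZero K₀ k (hz k hk)
  have hKc := isCoh_rC_cone (j := j) (C.ιTruncLE n) (hrc hTc) (hrc hcoh)
  have hG := isZero_GE_high I hω R e K₀ n hz' fun k => (hKc k).1
  have hDD := isZero_GE_low I hω R e ((GE K₀).obj I) (R.b - n) hG
  exact (goodAt_iff I (C.ιTruncLE n) i (fun k hk => hz' k (by omega)) fun k hk => hDD k (by omega)).1
    (goodAt_boundedAbove I hω R e h0 _ n hT hTc i)

include hω R e in
/-- **coherence of `Hom(C, I)`** -/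
theorem isCoh_GE_coh (C : CochainComplex X.Modules ℤ) (hcoh : ∀ k, Coh.IsCoh (C.homology k)) (i : ℤ) :
    Coh.IsCoh ((rC j ((GE C).obj I)).homology i) := by
  let n : ℤ := R.b + 2 - i
  obtain ⟨hT, hTc, hz⟩ := truncLE_props I hω R e C hcoh (max n (R.b + 2 - i))
  let N := max n (R.b + 2 - i)
  have hrc : ∀ {D : CochainComplex X.Modules ℤ}, (∀ k, Coh.IsCoh (D.homology k)) →
      ∀ k, Coh.IsCoh ((rC j D).homology k) := fun {D} hD k => by
    obtain ⟨d⟩ := nonempty_rC_homology (j := j) D k
    exact K0Coh.isCoh_of_iso d.symm (DCohShriek.isCoh_restrictFunctor _ (hD k))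
  let K₀ := CochainComplex.mappingCone (C.ιTruncLE N)
  have hKc := isCoh_rC_cone (j := j) (C.ιTruncLE N) (hrc hTc) (hrc hcoh)
  have hG := isZero_GE_high I hω R e K₀ N (fun k hk => isZero_rC_of_isZero K₀ k (hz k hk)) fun k => (hKc k).1
  have hS := shortExact_rC (j := j) (S := gSC (coneSC (C.ιTruncLE N)) I)
    fun l => (nonempty_splitting_gSC (coneSplitting (C.ιTruncLE N)) I l).some
  haveI := hS.isIso_δ i (i + 1) rfl (hG i (by omega)) (hG (i + 1) (by omega))
  refine K0Coh.isCoh_of_iso (asIso (hS.δ i (i + 1) rfl)).symm ?_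
  refine isCoh_GE I hω R e ((C.truncLE N)⟦(1 : ℤ)⟧) (N - 1) (fun k hk => ?_) (fun k => ?_) (i + 1)
  · obtain ⟨d⟩ := nonempty_rC_shift (j := j) (C.truncLE N) k (1 + k) rfl
    exact (isZero_rC_of_isZero _ _ (hT (1 + k) (by omega))).of_iso d
  · obtain ⟨d⟩ := nonempty_rC_shift (j := j) (C.truncLE N) k (1 + k) rfl
    exact K0Coh.isCoh_of_iso d.symm (hrc hTc _)

end Groth.Agent.DualSch.Bi
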