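import Groth.Agent.DualSch.SelfInv
import Groth.Agent.DualCx.TwistUnique
import Groth.Agent.RigidD.Main

/-!
Two dualizing complexes on a scheme differ locally by a shift.
-/

set_option backward.isDefEq.respectTransparency false
set_option backward.isDefEq.respectTransparency.types false
set_option linter.style.haveILetI false
set_option linter.unusedSectionVars false
set_option autoImplicit false
set_option maxHeartbeats 1000000

universe u

open CategoryTheory CategoryTheory.Limits AlgebraicGeometry TensorProduct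

attribute [local instance] HasDerivedCategory.standard

namespace Groth.Agent.DualSch

open Groth.Agent.DQCoh Groth.Agent.DualCx Groth.Agent.Shriek Groth.Agent.DualFlat

/-- Two dualizing complexes differ by a shift near a prime. -/
theorem exists_away_shift_iso {A : Type u} [CommRing A] [IsNoetherianRing A] {ω ω' : Dual.D A}
    (hω : Dual.IsDualizing A ω) (hω' : Dual.IsDualizing A ω') (q : PrimeSpectrum A)
    [hL : ∀ f : A, DRing.HasLBaseChange (algebraMap A (Localization.Away f))] :
    ∃ (f : A) (_ : f ∉ q.asIdeal) (m : ℤ),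
      Nonempty ((DRing.LBaseChange (algebraMap A (Localization.Away f))).obj ω' ≅
        ((DRing.LBaseChange (algebraMap A (Localization.Away f))).obj ω)⟦m⟧) := by
  classical
  obtain ⟨m, -, π, -, hπ⟩ := TwistU.exists_gen q.asIdeal hω hω'
  obtain ⟨C, g, d, hT⟩ := Pretriangulated.distinguished_cocone_triangle π
  have hωm := DualCx.isDualizing_shift hω' m
  obtain ⟨c₁, a₁, h₁, h₁'⟩ := TwistU.exists_bounds hω
  obtain ⟨c₂, a₂, h₂, h₂'⟩ := TwistU.exists_bounds hωm
  let H : ℤ → (Dual.D A ⥤ ModuleCat.{u} A) := fun i => DerivedCategory.homologyFunctor (ModuleCat.{u} A) i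
  have hex := fun i : ℤ => (DerivedCategory.HomologySequence.exact₃ _ hT i (i + 1) rfl)
  have hfin : ∀ i, Module.Finite A ((H i).obj C) := fun i => by
    haveI : IsNoetherian A ((H i).obj (ω'⟦m⟧)) :=
      haveI : Module.Finite A ((H i).obj (ω'⟦m⟧)) := hωm.finite_cohomology i
      inferInstance
    haveI : IsNoetherian A ((H (i + 1)).obj ω) :=
      haveI : Module.Finite A ((H (i + 1)).obj ω) := hω.finite_cohomology (i + 1)
      inferInstance
    let S : ShortComplex (ModuleCat.{u} A) := ShortComplex.mk ((H i).map g)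
      (DerivedCategory.HomologySequence.δ (Pretriangulated.Triangle.mk π g d) i (i + 1) rfl)
      (DerivedCategory.HomologySequence.comp_δ _ hT i (i + 1) rfl)
    haveI : IsNoetherian A S.X₁ := inferInstanceAs (IsNoetherian A ((H i).obj (ω'⟦m⟧)))
    haveI : IsNoetherian A S.X₃ := inferInstanceAs (IsNoetherian A ((H (i + 1)).obj ω))
    haveI : IsNoetherian A S.X₂ := isNoetherian_of_range_eq_ker S.f.hom S.g.hom
      ((ShortComplex.moduleCat_exact_iff_range_eq_ker S).1 (hex i))
    exact inferInstanceAs (Module.Finite A S.X₂)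
  have hbd : ∀ i, (i < min a₁ a₂ - 1 ∨ max c₁ c₂ < i) → Subsingleton ((H i).obj C) := fun i hi => by
    haveI := h₁; haveI := h₁'; haveI := h₂; haveI := h₂'
    have za : IsZero ((H i).obj (ω'⟦m⟧)) := by
      rcases hi with h | h
      · exact (DerivedCategory.isGE_iff (ω'⟦m⟧) a₂).1 h₂' i (by omega)
      · exact (DerivedCategory.isLE_iff (ω'⟦m⟧) c₂).1 h₂ i (by omega)
    have zb : IsZero ((H (i + 1)).obj ω) := by
      rcases hi with h | h
      · exact (DerivedCategory.isGE_iff ω a₁).1 h₁' _ (by omega)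
      · exact (DerivedCategory.isLE_iff ω c₁).1 h₁ _ (by omega)
    exact ModuleCat.subsingleton_of_isZero ((hex i).isZero_of_both_zeros (za.eq_of_src _ _) (zb.eq_of_tgt _ _))
  let Aq := Localization.AtPrime q.asIdeal
  have hz : IsZero ((locD (algebraMap A Aq)).obj C) := by
    haveI : Module.Flat A Aq := IsLocalization.flat Aq q.asIdeal.primeCompl
    haveI := hπ
    exact (Pretriangulated.Triangle.isZero₃_iff_isIso₁ _ ((locD (algebraMap A Aq)).map_distinguished _ hT)).2
      (inferInstanceAs (IsIso ((locD (algebraMap A Aq)).map π)))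
  have hoff : ∀ i, ∀ x : (H i).obj C, ∃ s ∉ q.asIdeal, s • x = 0 := fun i x => by
    haveI : Module.Flat A Aq := IsLocalization.flat Aq q.asIdeal.primeCompl
    haveI : Subsingleton (Aq ⊗[A] ((H i).obj C)) := by
      have h' := (DerivedCategory.homologyFunctor (ModuleCat.{u} Aq) i).map_isZero hz
      haveI := ModuleCat.subsingleton_of_isZero (h'.of_iso (locHD (algebraMap A Aq) C i).symm)
      exact (tens Aq ((H i).obj C)).symm.toEquiv.subsingleton
    obtain ⟨⟨s, hs⟩, hsx⟩ := (IsLocalizedModule.eq_zero_iff q.asIdeal.primeCompl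
      (TensorProduct.mk A Aq ((H i).obj C) 1) (m := x)).1 (Subsingleton.elim _ _)
    exact ⟨s, hs, hsx⟩
  choose k hk hkill using fun i => @Shriek.exists_annihilator A _ q.asIdeal _ ((H i).obj C) _ _ (hfin i) (hoff i)
  let I := Finset.Icc (min a₁ a₂ - 1) (max c₁ c₂)
  let f := ∏ i ∈ I, k i
  have hf : f ∉ q.asIdeal := fun h => by
    obtain ⟨i, -, hi⟩ := q.isPrime.prod_mem_iff.1 h
    exact hk i hi
  refine ⟨f, hf, -m, ?_⟩
  let Af := Localization.Away f
  haveI : Module.Flat A Af := IsLocalization.flat Af (Submonoid.powers f)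
  let φ := algebraMap A Af
  have hzf : IsZero ((locD φ).obj C) := by
    have h0 : ∀ i, IsZero ((DerivedCategory.homologyFunctor (ModuleCat.{u} Af) i).obj ((locD φ).obj C)) := fun i => by
      refine IsZero.of_iso ?_ (locHD φ C i)
      haveI : Subsingleton (Af ⊗[A] ((H i).obj C)) := by
        refine subsingleton_of_forall_eq 0 fun z => ?_
        obtain ⟨v, hv⟩ :=
          (IsLocalization.map_units Af (⟨f, Submonoid.mem_powers f⟩ : Submonoid.powers f)).exists_left_inv
        have hfz : ∀ x : (H i).obj C, f • x = 0 := fun x => by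
          by_cases hi : i ∈ I
          · rw [show f = (∏ j ∈ I.erase i, k j) * k i from (Finset.prod_erase_mul _ _ hi).symm, mul_smul,
              hkill i x, smul_zero]
          · haveI := hbd i (by simp only [I, Finset.mem_Icc] at hi; omega)
            exact Subsingleton.elim _ _
        have h0 : algebraMap A Af f • z = 0 := by
          induction z using TensorProduct.induction_on with
          | zero => rw [smul_zero]
          | add x y hx hy => rw [smul_add, hx, hy, add_zero]
          | tmul b x => rw [algebraMap_smul, ← TensorProduct.tmul_smul, hfz, TensorProduct.tmul_zero]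
        calc z = (v * algebraMap A Af f) • z := by rw [hv, one_smul]
          _ = 0 := by rw [mul_smul, h0, smul_zero]
      haveI : Subsingleton ((ext φ).obj ((H i).obj C)) := (tens Af ((H i).obj C)).toEquiv.subsingleton
      exact ModuleCat.isZero_of_subsingleton _
    haveI : ((locD φ).obj C).IsLE (-1) := (DerivedCategory.isLE_iff _ _).2 fun i _ => h0 i
    haveI : ((locD φ).obj C).IsGE 0 := (DerivedCategory.isGE_iff _ _).2 fun i _ => h0 i
    exact DerivedCategory.TStructure.t.isZero _ (-1) 0 (by omega)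
  haveI : IsIso ((locD φ).map π) :=
    (Pretriangulated.Triangle.isZero₃_iff_isIso₁ _ ((locD φ).map_distinguished _ hT)).1 hzf
  exact ⟨lBaseChangeObjIso φ ω' ≪≫ ((shiftFunctorCompIsoId (Dual.D Af) m (-m) (by omega)).app _).symm ≪≫
    (shiftFunctor (Dual.D Af) (-m)).mapIso ((((locD φ).commShiftIso m).app ω').symm ≪≫
      (asIso ((locD φ).map π)).symm ≪≫ (lBaseChangeObjIso φ ω).symm)⟩

variable {X : Scheme.{u}}
  [∀ (U V : Scheme.{u}) (j : U ⟶ V) [IsOpenImmersion j], PreservesFiniteLimits (Scheme.Modules.restrictFunctor j)]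
  [∀ (R : CommRingCat.{u}), PreservesFiniteLimits (tilde.functor R)]

/-- a dualizing complex is locally rigid on every open subscheme -/
theorem rigidNear_restrict {K : DCoh.D X} (hK : Dual2.IsDualizingSch X K) {Y : Scheme.{u}} (l : Y ⟶ X)
    [IsOpenImmersion l] (x : Y) (W : Y.Opens) (hx : x ∈ W) : RigidD.RigidNear ((RD l).obj K) x W := by
  obtain ⟨A, w, hw, hxw, hW⟩ := Scheme.exists_affine_mem_range_and_range_subset (X := Y) (U := W) (x := x) hx
  obtain ⟨ω, hω, ⟨e⟩⟩ := hK A (w ≫ l)
  exact ⟨A, inferInstance, w, hw, ω, hxw, hW, ⟨((rdComp w l).app K).symm ≪≫ e⟩, hω.toEnd_bijective,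
    hω.ext_self_subsingleton⟩

/-- **two dualizing complexes differ locally by a shift** -/
theorem exists_local_shift {K K' : DCoh.D X} (hK : Dual2.IsDualizingSch X K) (hK' : Dual2.IsDualizingSch X K')
    (x : X) : ∃ (U : X.Opens) (n : ℤ), x ∈ U ∧
      Nonempty ((DCoh.restrictD U.ι).obj K' ≅ ((DCoh.restrictD U.ι).obj K)⟦n⟧) := by
  haveI := fun (S T : Type u) [CommRing S] [CommRing T] (φ : S →+* T) => DRingKP.hasLBaseChange φ
  obtain ⟨A, j, hj, ⟨q, rfl⟩, -⟩ :=
    Scheme.exists_affine_mem_range_and_range_subset (U := (⊤ : X.Opens)) (x := x) trivial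
  obtain ⟨ω, hω, ⟨e⟩⟩ := hK A j
  obtain ⟨ω', hω', ⟨e'⟩⟩ := hK' A j
  haveI := hω.isNoetherianRing
  obtain ⟨f, hf, m, ⟨ef⟩⟩ := exists_away_shift_iso hω hω' q
  let sf := Spec.map (CommRingCat.ofHom (algebraMap A (Localization.Away f)))
  haveI : IsOpenImmersion sf := IsOpenImmersion.of_isLocalization (R := A) (S := Localization.Away f) f
  haveI : Module.Flat A (Localization.Away f) := IsLocalization.flat _ (Submonoid.powers f)
  obtain ⟨e₁⟩ := nonempty_chart_restrict (B := Localization.Away f) j e
  obtain ⟨e₁'⟩ := nonempty_chart_restrict (B := Localization.Away f) j e'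
  let ek : (DCoh.restrictD (sf ≫ j)).obj K' ≅ ((DCoh.restrictD (sf ≫ j)).obj K)⟦m⟧ :=
    e₁' ≪≫ (DCoh.tildeD (CommRingCat.of (Localization.Away f))).mapIso ef ≪≫
      ((DCoh.tildeD (CommRingCat.of (Localization.Away f))).commShiftIso m).app _ ≪≫
      (CategoryTheory.shiftFunctor _ m).mapIso e₁.symm
  obtain ⟨z, hz⟩ := (PrimeSpectrum.localization_away_comap_range (Localization.Away f) f).ge
    (show q ∈ (PrimeSpectrum.basicOpen f : Set (PrimeSpectrum A)) from hf)
  refine ⟨(sf ≫ j).opensRange, m, ⟨z, congrArg j.base hz⟩, ?_⟩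
  let i := (sf ≫ j).isoOpensRange
  have hi : i.inv ≫ (sf ≫ j) = (sf ≫ j).opensRange.ι := (sf ≫ j).isoOpensRange_inv_comp
  exact ⟨(rdCongr hi.symm).app K' ≪≫ (rdComp i.inv (sf ≫ j)).app K' ≪≫ (DCoh.restrictD i.inv).mapIso ek ≪≫
    ((DCoh.restrictD i.inv).commShiftIso m).app _ ≪≫
    (CategoryTheory.shiftFunctor _ m).mapIso (((rdComp i.inv (sf ≫ j)).app _).symm ≪≫ (rdCongr hi).app _)⟩

end Groth.Agent.DualSch
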