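import Groth.Agent.RHomCx.Bidual
import Groth.Agent.RHomCx.Main
import Groth.Agent.RigidD.MapsDegree
import Groth.Agent.RigidD.Mate
import Groth.Agent.DualSch.UniqueTwist
import Groth.Agent.DTenPC.Eval
import Groth.Agent.DQCoh.PCNoeth
import Groth.Agent.DCohShriek.CoherentMain
import Groth.Agent.ExtShX.AffineTilde

/-!
Amplitude and coherence of `Hom(C, I)` for a dualizing `I`, over an affine chart.
-/

set_option autoImplicit false
set_option backward.isDefEq.respectTransparency false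
set_option backward.isDefEq.respectTransparency.types false
set_option linter.style.haveILetI false
set_option linter.unusedSectionVars false
set_option maxHeartbeats 1000000

universe u

open CategoryTheory Limits AlgebraicGeometry HomologicalComplex

attribute [local instance] HasDerivedCategory.standard

namespace Groth.Agent.DualSch.Bi

open Groth.Agent.DQCoh (RD rdComp rdCongr rdIso)
open Groth.Agent.KFlat Groth.Agent.DualFlat
open Groth.Agent.DualCx (locD locQ ext)

/-- maps from a generator into `RHom(E, L)` -/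
theorem subsingleton_gen_RHom {Y : Scheme.{u}} {B : Type u} [CommRing B] (w : Spec (CommRingCat.of B) ⟶ Y)
    [IsOpenImmersion w] {E : CochainComplex Y.Modules ℤ} (hE : DCoh.IsKFlat E) [DCoh.HasLTensorCx E]
    [DCoh.HasRSheafHom E] (L : DCoh.D Y) (m : ℤ)
    (h : Subsingleton (((RD w).obj (DCoh.toD Y E))⟦m⟧ ⟶ (RD w).obj L)) :
    Subsingleton (RigidD.gen w.opensRange m ⟶ (DCoh.RSheafHom E).obj L) := by
  let U := w.opensRange
  haveI : DCoh.HasLTensorCx ((DCoh.restrictCx U).obj E) := KFlat.hasLTensorCx _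
  let P := (Scheme.Modules.pullback w).mapHomologicalComplex (ComplexShape.up ℤ)
  haveI : DCoh.HasLTensorCx (P.obj E) := KFlat.hasLTensorCx _
  obtain ⟨θ⟩ := RigidD.nonempty_restrict_LT w hE
  obtain ⟨Φ⟩ := RHomCx.nonempty_extZero_LTensorCx U E
  obtain ⟨eg⟩ := RigidD.nonempty_RD_gen w m
  obtain ⟨et⟩ := RigidD.nonempty_ltensor_unit_shift (isKFlat_pullback w hE) m
  let eP : DCoh.toD (Spec (CommRingCat.of B)) (P.obj E) ≅ (RD w).obj (DCoh.toD Y E) :=
    DerivedCategory.Q.mapIso ((NatIso.mapHomologicalComplex (Scheme.Modules.restrictFunctorIsoPullback w)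
      (ComplexShape.up ℤ)).app E).symm ≪≫
    ((Scheme.Modules.restrictFunctor w).mapDerivedCategoryFactors.app E).symm
  let eS : (RD w).obj ((DCoh.LTensorCx E).obj (RigidD.gen U m)) ≅ ((RD w).obj (DCoh.toD Y E))⟦m⟧ :=
    θ.app _ ≪≫ (DCoh.LTensorCx (P.obj E)).mapIso eg ≪≫ et ≪≫ (shiftFunctor _ m).mapIso eP
  let Og := (DCoh.inD (U : Scheme.{u}) (Coh.structureModule (U : Scheme.{u})))⟦m⟧
  have hb : Function.Bijective ((RD w).map :
      ((DCoh.LTensorCx E).obj (RigidD.gen U m) ⟶ L) → _) :=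
    RigidD.bijective_map_of_iso (RD w) (Φ.app Og).symm (Iso.refl L) (RigidD.bijective_RD_map w _ L)
  haveI : Subsingleton ((RD w).obj ((DCoh.LTensorCx E).obj (RigidD.gen U m)) ⟶ (RD w).obj L) :=
    @Equiv.subsingleton _ _ (eS.homCongr (Iso.refl _)) h
  haveI : Subsingleton ((DCoh.LTensorCx E).obj (RigidD.gen U m) ⟶ L) := hb.1.subsingleton
  exact ((DCoh.RSheafHomAdj E).homEquiv _ _).symm.subsingleton

variable {X : Scheme.{u}}
  [∀ (U : Scheme.{u}) (j : U ⟶ X) [IsOpenImmersion j], PreservesFiniteLimits (Scheme.Modules.restrictFunctor j)]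
  [∀ (R : CommRingCat.{u}), PreservesFiniteLimits (tilde.functor R)]
  (I : CochainComplex X.Modules ℤ) [I.IsKInjective]
  {A : Type u} [CommRing A] (j : Spec (CommRingCat.of A) ⟶ X) [IsOpenImmersion j]
  {ω : Dual.D A} (hω : Dual.IsDualizing A ω) (R : DualCx.Rep ω)
  (e : (RD j).obj (DerivedCategory.Q.obj I) ≅ (DCoh.tildeD (CommRingCat.of A)).obj ω)

/-- restriction to the chart, on complexes -/
noncomputable abbrev rC (C : CochainComplex X.Modules ℤ) :
    CochainComplex (j.opensRange : Scheme.{u}).Modules ℤ :=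
  (DCoh.restrictCx j.opensRange).obj C

/-- cohomology of `toD` -/
noncomputable def hdQ {Y : Scheme.{u}} (C : CochainComplex Y.Modules ℤ) (i : ℤ) :
    DCoh.HD (DerivedCategory.Q.obj C) i ≅ C.homology i :=
  (DerivedCategory.homologyFunctorFactors Y.Modules i).app C

/-- `Hom(C, I)` over the chart as an `RHom` -/
theorem nonempty_GE_restrict (C : CochainComplex X.Modules ℤ)
    [DCoh.HasLTensorCx ((DCoh.restrictCx j.opensRange).obj ((resF X).obj C))]
    [DCoh.HasRSheafHom ((DCoh.restrictCx j.opensRange).obj ((resF X).obj C))] :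
    Nonempty (DerivedCategory.Q.obj (rC j ((RHomCx.GE C).obj I)) ≅
      (DCoh.RSheafHom ((DCoh.restrictCx j.opensRange).obj ((resF X).obj C))).obj
        ((RD j.opensRange.ι).obj (DerivedCategory.Q.obj I))) := by
  let Cf := (resF X).obj C
  haveI := KFlat.hasLTensorCx Cf
  haveI := RHomCx.hasRSheafHom Cf
  haveI := RHomCx.quasiIso_gmap ((resψ X).app C) I
  let q := (RHomCx.gmap ((resψ X).app C)).app I
  obtain ⟨e₁⟩ := RHomCx.nonempty_RHom_iso Cf (isKFlat_resF C) I
  obtain ⟨-, ⟨e₂⟩⟩ := RigidD.counit_local (isKFlat_resF C) j.opensRange (DerivedCategory.Q.obj I)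
  exact ⟨(rdIso j.opensRange.ι _).symm ≪≫ (RD j.opensRange.ι).mapIso (asIso (DerivedCategory.Q.map q) ≪≫ e₁.symm) ≪≫
    e₂⟩

variable {j}

/-- a basic chart inside the image of the chart -/
theorem exists_basic_chart (x : (j.opensRange : Scheme.{u})) (W : (j.opensRange : Scheme.{u}).Opens) (hx : x ∈ W) :
    ∃ (f : A) (w : Spec (CommRingCat.of (Localization.Away f)) ⟶ (j.opensRange : Scheme.{u}))
      (_ : IsOpenImmersion w), x ∈ w.opensRange ∧ w.opensRange ≤ W ∧
      w ≫ j.opensRange.ι = Spec.map (CommRingCat.ofHom (algebraMap A (Localization.Away f))) ≫ j := by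
  let z := j.isoOpensRange.inv x
  have hz : j.isoOpensRange.hom z = x := by
    show (j.isoOpensRange.inv ≫ j.isoOpensRange.hom) x = x
    rw [Iso.inv_hom_id]
    rfl
  obtain ⟨_, ⟨f, rfl⟩, hzf, hfW⟩ := PrimeSpectrum.isTopologicalBasis_basic_opens.exists_subset_of_mem_open
    (show z ∈ (j.isoOpensRange.hom ⁻¹ᵁ W : Set _) from (show j.isoOpensRange.hom z ∈ W by rw [hz]; exact hx)) (j.isoOpensRange.hom ⁻¹ᵁ W).isOpen
  let sf := Spec.map (CommRingCat.ofHom (algebraMap A (Localization.Away f)))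
  haveI : IsOpenImmersion sf := IsOpenImmersion.of_isLocalization (R := A) (S := Localization.Away f) f
  refine ⟨f, sf ≫ j.isoOpensRange.hom, inferInstance, ?_, ?_, ?_⟩
  · obtain ⟨t, ht⟩ := (PrimeSpectrum.localization_away_comap_range (Localization.Away f) f).ge hzf
    exact ⟨t, (congrArg j.isoOpensRange.hom.base ht).trans hz⟩
  · rintro _ ⟨t, rfl⟩
    exact hfW ((PrimeSpectrum.localization_away_comap_range (Localization.Away f) f).le ⟨t, rfl⟩)
  · rw [Category.assoc, RigidD.hom_ι_eq]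

section Chart

variable {B : Type u} [CommRing B] (w : Spec (CommRingCat.of B) ⟶ (j.opensRange : Scheme.{u})) [IsOpenImmersion w]

/-- cohomology in a smaller chart -/
theorem nonempty_HD_chart (C : CochainComplex X.Modules ℤ) (k : ℤ) :
    Nonempty (DCoh.HD ((RD (w ≫ j.opensRange.ι)).obj (DerivedCategory.Q.obj C)) k ≅
      (Scheme.Modules.restrictFunctor w).obj ((rC j C).homology k)) :=
  ⟨(DerivedCategory.homologyFunctor _ k).mapIso ((rdComp w j.opensRange.ι).app _ ≪≫
      (RD w).mapIso (rdIso j.opensRange.ι C)) ≪≫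
    (DQCoh.homologyDerIso (Scheme.Modules.restrictFunctor w) k).app _ ≪≫
    (Scheme.Modules.restrictFunctor w).mapIso (hdQ (rC j C) k)⟩

theorem isLE_chart (C : CochainComplex X.Modules ℤ) (m : ℤ) (hm : ∀ k, m < k → IsZero ((rC j C).homology k)) :
    ((RD (w ≫ j.opensRange.ι)).obj (DerivedCategory.Q.obj C)).IsLE m :=
  (DerivedCategory.isLE_iff _ m).2 fun k hk => by
    obtain ⟨d⟩ := nonempty_HD_chart w C k
    exact ((Scheme.Modules.restrictFunctor w).map_isZero (hm k hk)).of_iso d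

theorem isGE_chart (C : CochainComplex X.Modules ℤ) (n : ℤ) (hn : ∀ k, k < n → IsZero ((rC j C).homology k)) :
    ((RD (w ≫ j.opensRange.ι)).obj (DerivedCategory.Q.obj C)).IsGE n :=
  (DerivedCategory.isGE_iff _ n).2 fun k hk => by
    obtain ⟨d⟩ := nonempty_HD_chart w C k
    exact ((Scheme.Modules.restrictFunctor w).map_isZero (hn k hk)).of_iso d

theorem isQCohD_chart (C : CochainComplex X.Modules ℤ) (hq : ∀ k, Coh.IsQCoh ((rC j C).homology k)) :
    DCoh.IsQCohD ((RD (w ≫ j.opensRange.ι)).obj (DerivedCategory.Q.obj C)) := fun k => by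
  obtain ⟨d⟩ := nonempty_HD_chart w C k
  exact QC.isQCoh_of_iso d.symm (QC.isQCoh_restrict w (hq k))

end Chart

include R e in
/-- the dualizing complex on a basic chart, with uniform amplitude -/
theorem exists_chart_rep (f : A) {w : Spec (CommRingCat.of (Localization.Away f)) ⟶ (j.opensRange : Scheme.{u})}
    [IsOpenImmersion w]
    (hw : w ≫ j.opensRange.ι = Spec.map (CommRingCat.ofHom (algebraMap A (Localization.Away f))) ≫ j)
    [IsNoetherianRing A] :
    ∃ ωf : Dual.D (Localization.Away f), DRing.HasInjAmplitudeIn (Localization.Away f) R.a R.b ωf ∧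
      Nonempty ((RD (w ≫ j.opensRange.ι)).obj (DerivedCategory.Q.obj I) ≅
        (DCoh.tildeD (CommRingCat.of (Localization.Away f))).obj ωf) := by
  haveI := fun (S T : Type u) [CommRing S] [CommRing T] (φ : S →+* T) => DRingKP.hasLBaseChange φ
  let B := Localization.Away f
  let φ := algebraMap A B
  let sf := Spec.map (CommRingCat.ofHom φ)
  haveI : IsOpenImmersion sf := IsOpenImmersion.of_isLocalization (R := A) (S := B) f
  haveI : Module.Flat A B := IsLocalization.flat _ (Submonoid.powers f)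
  haveI : PreservesFiniteLimits (ext φ) := DualCx.preservesFiniteLimits_ext
  obtain ⟨e₁⟩ := nonempty_restrict_tildeD (A := A) (B := B) ω
  refine ⟨(locD φ).obj ω, ⟨(DRingKP.bc φ).obj R.J, ?_, ?_, ⟨?_⟩⟩, ⟨?_⟩⟩
  · exact fun i hi => (ext φ).map_isZero (R.zero i hi)
  · intro i
    haveI := R.inj i
    haveI : Injective (((DRingKP.bc φ).obj R.J).X i) := DualCx.injective_ext (φ := φ) (Submonoid.powers f) (R.J.X i)
    exact (Module.injective_iff_injective_object B _).2 inferInstance
  · exact (locQ φ R.J).symm ≪≫ (locD φ).mapIso R.iso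
  · exact (rdCongr hw).app _ ≪≫ (rdComp sf j).app _ ≪≫ (DCoh.restrictD sf).mapIso e ≪≫ e₁ ≪≫
      (DCoh.tildeD (CommRingCat.of B)).mapIso (DualCx.lBaseChangeObjIso φ ω)

theorem isGE_tildeD_of_amp {B : Type u} [CommRing B] {M : Dual.D B} {a b : ℤ}
    (h : DRing.HasInjAmplitudeIn B a b M) : ((DCoh.tildeD (CommRingCat.of B)).obj M).IsGE a := by
  obtain ⟨E, hE, -, ⟨d⟩⟩ := h
  refine (DerivedCategory.isGE_iff _ a).2 fun k hk => ?_
  refine IsZero.of_iso ?_ ((DQCoh.homologyDerIso (tilde.functor (CommRingCat.of B)) k).app M)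
  refine (tilde.functor (CommRingCat.of B)).map_isZero (IsZero.of_iso ?_
    ((DerivedCategory.homologyFunctor (ModuleCat.{u} B) k).mapIso d.symm ≪≫
      (DerivedCategory.homologyFunctorFactors (ModuleCat.{u} B) k).app E))
  refine ShortComplex.isZero_homology_of_isZero_X₂ _ ?_
  exact hE k (Or.inl hk)

theorem isGE_of_tildeD {B : Type u} [CommRing B] {M : Dual.D B} {n : ℤ}
    (h : ((DCoh.tildeD (CommRingCat.of B)).obj M).IsGE n) : M.IsGE n := by
  refine (DerivedCategory.isGE_iff _ n).2 fun k hk => ?_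
  have h1 := ((DerivedCategory.isGE_iff _ n).1 h k hk).of_iso
    ((DQCoh.homologyDerIso (tilde.functor (CommRingCat.of B)) k).app M).symm
  exact (IsZero.iff_id_eq_zero _).2 ((tilde.functor (CommRingCat.of B)).map_injective (h1.eq_of_src _ _))

include hω R e in
/-- **lower vanishing**: `C ≤ m` gives `Hom(C, I) ≥ a - m` over the chart -/
theorem isZero_GE_low (C : CochainComplex X.Modules ℤ) (m : ℤ) (hm : ∀ k, m < k → IsZero ((rC j C).homology k))
    (i : ℤ) (hi : i < R.a - m) : IsZero ((rC j ((RHomCx.GE C).obj I)).homology i) := by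
  haveI := hω.isNoetherianRing
  haveI := KFlat.hasLTensorCx ((DCoh.restrictCx j.opensRange).obj ((resF X).obj C))
  haveI := RHomCx.hasRSheafHom ((DCoh.restrictCx j.opensRange).obj ((resF X).obj C))
  obtain ⟨d⟩ := nonempty_GE_restrict I j C
  refine IsZero.of_iso ?_ ((hdQ _ i).symm ≪≫ (DerivedCategory.homologyFunctor _ i).mapIso d)
  let Bs : Set (j.opensRange : Scheme.{u}).Opens := {V | ∃ (f : A)
    (w : Spec (CommRingCat.of (Localization.Away f)) ⟶ (j.opensRange : Scheme.{u})) (_ : IsOpenImmersion w),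
      w.opensRange = V ∧ w ≫ j.opensRange.ι = Spec.map (CommRingCat.ofHom (algebraMap A (Localization.Away f))) ≫ j}
  refine RigidD.isZero_HD_of_maps Bs (fun W x hx => ?_) _ i ?_
  · obtain ⟨f, w, hwi, h1, h2, h3⟩ := exists_basic_chart x W hx
    exact ⟨w.opensRange, ⟨f, w, hwi, rfl, h3⟩, h2, h1⟩
  rintro _ ⟨f, w, _, rfl, hw⟩ g
  obtain ⟨ωf, hamp, ⟨eK⟩⟩ := exists_chart_rep I R e f hw
  refine @Subsingleton.elim _ (subsingleton_gen_RHom w (DerPerf.isKFlat_restrictCx _ (isKFlat_resF C)) _ _ ?_) g 0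
  let eC : (RD w).obj (DCoh.toD _ ((DCoh.restrictCx j.opensRange).obj ((resF X).obj C))) ≅
      (RD (w ≫ j.opensRange.ι)).obj (DerivedCategory.Q.obj C) :=
    (RD w).mapIso ((rdIso j.opensRange.ι _).symm ≪≫
      (RD j.opensRange.ι).mapIso (asIso (DerivedCategory.Q.map ((resψ X).app C)))) ≪≫
    ((rdComp w j.opensRange.ι).app _).symm
  let eL : (RD w).obj ((RD j.opensRange.ι).obj (DerivedCategory.Q.obj I)) ≅
      (DCoh.tildeD (CommRingCat.of (Localization.Away f))).obj ωf :=
    ((rdComp w j.opensRange.ι).app _).symm ≪≫ eK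
  refine @Equiv.subsingleton _ _ (((shiftFunctor _ (-i)).mapIso eC).homCongr eL) ⟨fun p q => ?_⟩
  haveI := isLE_chart w C m hm
  haveI := DerivedCategory.TStructure.t.isLE_shift ((RD (w ≫ j.opensRange.ι)).obj (DerivedCategory.Q.obj C)) m (-i)
    (m + i) (by omega)
  haveI := isGE_tildeD_of_amp hamp
  rw [DerivedCategory.TStructure.t.zero p (m + i) R.a (by omega),
    DerivedCategory.TStructure.t.zero q (m + i) R.a (by omega)]

include hω R e in
/-- **upper vanishing**: qcoh `C ≥ n` gives `Hom(C, I) ≤ b - n` over the chart -/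
theorem isZero_GE_high (C : CochainComplex X.Modules ℤ) (n : ℤ) (hn : ∀ k, k < n → IsZero ((rC j C).homology k))
    (hq : ∀ k, Coh.IsQCoh ((rC j C).homology k))
    (i : ℤ) (hi : R.b - n < i) : IsZero ((rC j ((RHomCx.GE C).obj I)).homology i) := by
  haveI := hω.isNoetherianRing
  haveI := KFlat.hasLTensorCx ((DCoh.restrictCx j.opensRange).obj ((resF X).obj C))
  haveI := RHomCx.hasRSheafHom ((DCoh.restrictCx j.opensRange).obj ((resF X).obj C))
  obtain ⟨d⟩ := nonempty_GE_restrict I j C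
  refine IsZero.of_iso ?_ ((hdQ _ i).symm ≪≫ (DerivedCategory.homologyFunctor _ i).mapIso d)
  let Bs : Set (j.opensRange : Scheme.{u}).Opens := {V | ∃ (f : A)
    (w : Spec (CommRingCat.of (Localization.Away f)) ⟶ (j.opensRange : Scheme.{u})) (_ : IsOpenImmersion w),
      w.opensRange = V ∧ w ≫ j.opensRange.ι = Spec.map (CommRingCat.ofHom (algebraMap A (Localization.Away f))) ≫ j}
  refine RigidD.isZero_HD_of_maps Bs (fun W x hx => ?_) _ i ?_
  · obtain ⟨f, w, hwi, h1, h2, h3⟩ := exists_basic_chart x W hx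
    exact ⟨w.opensRange, ⟨f, w, hwi, rfl, h3⟩, h2, h1⟩
  rintro _ ⟨f, w, _, rfl, hw⟩ g
  obtain ⟨ωf, hamp, ⟨eK⟩⟩ := exists_chart_rep I R e f hw
  let T := DCoh.tildeD (CommRingCat.of (Localization.Away f))
  obtain ⟨hfull, hfaith, hess⟩ := DQCoh.tildeD_affine (R := CommRingCat.of (Localization.Away f))
  haveI := hfull
  haveI := hfaith
  obtain ⟨G, ⟨eG⟩⟩ := (hess _).1 (isQCohD_chart w C hq)
  have hGn : G.IsGE n := by
    haveI := isGE_chart w C n hn
    exact isGE_of_tildeD (DerivedCategory.TStructure.t.isGE_of_iso eG.symm n)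
  refine @Subsingleton.elim _ (subsingleton_gen_RHom w (DerPerf.isKFlat_restrictCx _ (isKFlat_resF C)) _ _ ?_) g 0
  let eC : (RD w).obj (DCoh.toD _ ((DCoh.restrictCx j.opensRange).obj ((resF X).obj C))) ≅ T.obj G :=
    (RD w).mapIso ((rdIso j.opensRange.ι _).symm ≪≫
      (RD j.opensRange.ι).mapIso (asIso (DerivedCategory.Q.map ((resψ X).app C)))) ≪≫
    ((rdComp w j.opensRange.ι).app _).symm ≪≫ eG.symm
  let eL : (RD w).obj ((RD j.opensRange.ι).obj (DerivedCategory.Q.obj I)) ≅ T.obj ωf :=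
    ((rdComp w j.opensRange.ι).app _).symm ≪≫ eK
  haveI : Subsingleton (G⟦-i⟧ ⟶ ωf) := ⟨fun p q => by
    have hY := DTenPC.isGE_shift' G n (-i) (n + i) (by omega) hGn
    rw [DTenPC.eq_zero_of_amp hamp hY (by omega) p, DTenPC.eq_zero_of_amp hamp hY (by omega) q]⟩
  haveI : Subsingleton (T.obj (G⟦-i⟧) ⟶ T.obj ωf) :=
    (Functor.FullyFaithful.ofFullyFaithful T).homEquiv.symm.subsingleton
  exact @Equiv.subsingleton _ _ ((((shiftFunctor _ (-i)).mapIso eC) ≪≫ ((T.commShiftIso (-i)).app G).symm).homCongr eL)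
    (by assumption)

include hω R e in
/-- **coherence**: coherent `C ≤ m` gives coherent `Hom(C, I)` over the chart -/
theorem isCoh_GE [IsLocallyNoetherian X] (C : CochainComplex X.Modules ℤ) (m : ℤ)
    (hm : ∀ k, m < k → IsZero ((rC j C).homology k))
    (hc : ∀ k, Coh.IsCoh ((rC j C).homology k)) (i : ℤ) : Coh.IsCoh ((rC j ((RHomCx.GE C).obj I)).homology i) := by
  haveI := hω.isNoetherianRing
  let U := j.opensRange
  haveI : IsNoetherian (U : Scheme.{u}) := by
    haveI : IsAffine (U : Scheme.{u}) := (isAffineOpen_opensRange j)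
    exact ⟨⟩
  let Cf := (DCoh.restrictCx U).obj ((resF X).obj C)
  haveI := KFlat.hasLTensorCx Cf
  haveI := RHomCx.hasRSheafHom Cf
  obtain ⟨d⟩ := nonempty_GE_restrict I j C
  let eC : DCoh.toD (U : Scheme.{u}) Cf ≅ DerivedCategory.Q.obj (rC j C) :=
    (rdIso U.ι _).symm ≪≫ (RD U.ι).mapIso (asIso (DerivedCategory.Q.map ((resψ X).app C))) ≪≫ rdIso U.ι C
  have hcC : ∀ k, Coh.IsCoh (DCoh.HD (DCoh.toD (U : Scheme.{u}) Cf) k) := fun k =>
    K0Coh.isCoh_of_iso ((hdQ _ k).symm ≪≫ (DerivedCategory.homologyFunctor _ k).mapIso eC.symm) (hc k)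
  have hLE : (DCoh.toD (U : Scheme.{u}) Cf).IsLE m := (DerivedCategory.isLE_iff _ m).2 fun k hk =>
    (hm k hk).of_iso ((DerivedCategory.homologyFunctor _ k).mapIso eC ≪≫ hdQ _ k)
  have hpc : ∀ n, DCoh.IsPseudoCoherentD n (DCoh.toD (U : Scheme.{u}) Cf) := fun n =>
    (DQCoh.pc_iff_isCoh _ (fun k => (hcC k).1) n).2 ⟨fun k _ => hcC k, m, hLE⟩
  let L := (RD U.ι).obj (DerivedCategory.Q.obj I)
  let eL : (RD j).obj (DerivedCategory.Q.obj I) ≅ (RD j.isoOpensRange.hom).obj L :=
    (rdCongr (RigidD.hom_ι_eq j).symm).app _ ≪≫ (rdComp _ _).app _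
  let eL' : L ≅ (RD j.isoOpensRange.inv).obj ((DCoh.tildeD (CommRingCat.of A)).obj ω) :=
    (RigidD.rdEquiv j.isoOpensRange.hom).unitIso.app L ≪≫
      (rdCongr (IsIso.inv_eq_of_hom_inv_id j.isoOpensRange.hom_inv_id)).app _ ≪≫
      (RD j.isoOpensRange.inv).mapIso (eL.symm ≪≫ e)
  have hHD : ∀ k, Nonempty (DCoh.HD L k ≅
      (Scheme.Modules.restrictFunctor j.isoOpensRange.inv).obj
        (tilde ((DerivedCategory.homologyFunctor (ModuleCat.{u} A) k).obj ω))) := fun k =>
    ⟨(DerivedCategory.homologyFunctor _ k).mapIso eL' ≪≫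
      (DQCoh.homologyDerIso (Scheme.Modules.restrictFunctor j.isoOpensRange.inv) k).app _ ≪≫
      (Scheme.Modules.restrictFunctor j.isoOpensRange.inv).mapIso
        ((DQCoh.homologyDerIso (tilde.functor (CommRingCat.of A)) k).app ω)⟩
  have hcL : ∀ k, Coh.IsCoh (DCoh.HD L k) := fun k => by
    obtain ⟨dk⟩ := hHD k
    refine K0Coh.isCoh_of_iso dk.symm (DCohShriek.isCoh_restrictFunctor _ ?_)
    haveI : Module.Finite A ((DerivedCategory.homologyFunctor (ModuleCat.{u} A) k).obj ω) := hω.finite_cohomology k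
    exact ExtShX.isCoh_tilde (A := A) ((DerivedCategory.homologyFunctor (ModuleCat.{u} A) k).obj ω)
  haveI : L.IsGE R.a := (DerivedCategory.isGE_iff _ _).2 fun k hk => by
    obtain ⟨dk⟩ := hHD k
    refine IsZero.of_iso ((Scheme.Modules.restrictFunctor j.isoOpensRange.inv).map_isZero ?_) dk
    refine (tilde.functor (CommRingCat.of A)).map_isZero (IsZero.of_iso ?_
      ((DerivedCategory.homologyFunctor (ModuleCat.{u} A) k).mapIso R.iso.symm ≪≫
        (DerivedCategory.homologyFunctorFactors (ModuleCat.{u} A) k).app R.J))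
    exact ShortComplex.isZero_homology_of_isZero_X₂ _ (R.zero k (Or.inl hk))
  exact K0Coh.isCoh_of_iso ((DerivedCategory.homologyFunctor _ i).mapIso d.symm ≪≫ hdQ _ i)
    (RHomCx.prop_RSheafHom_pseudoCoherent RHomCx.locClass_coh
      (inferInstanceAs (IsLocallyNoetherian (U : Scheme.{u}))) Cf (R.a - i - 1) (hpc _) L hcL R.a i (by omega))

end Groth.Agent.DualSch.Bi
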