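import Groth.Agent.DualSch.SelfInv
import Groth.Agent.RelPCS.FlatBase
import Groth.Agent.GorMor.Locus
import Groth.Agent.DualFlat.Apps

/-!
Inverse image of dualizing complexes along Gorenstein morphisms.
-/

set_option backward.isDefEq.respectTransparency false
set_option backward.isDefEq.respectTransparency.types false
set_option linter.style.haveILetI false
set_option autoImplicit false
set_option maxHeartbeats 1000000

universe u

open CategoryTheory CategoryTheory.Limits AlgebraicGeometry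

attribute [local instance] HasDerivedCategory.standard

namespace Groth.Agent.DualSch

open Groth.Agent.DQCoh

variable {X Y : Scheme.{u}}
  [∀ (U V : Scheme.{u}) (j : U ⟶ V) [IsOpenImmersion j], PreservesFiniteLimits (Scheme.Modules.restrictFunctor j)]
  [∀ (R : CommRingCat.{u}), PreservesFiniteLimits (tilde.functor R)]

/-- A flat inverse image in a pair of charts. -/
theorem nonempty_chart_Lpull (f : X ⟶ Y) [Flat f] [DCoh.HasLpull f] {A B : Type u} [CommRing A] [CommRing B]
    [Algebra A B] [Module.Flat A B] [DRing.HasLBaseChange (algebraMap A B)]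
    (j : Spec (CommRingCat.of A) ⟶ Y) [IsOpenImmersion j] (k : Spec (CommRingCat.of B) ⟶ X) [IsOpenImmersion k]
    (w : k ≫ f = Spec.map (CommRingCat.ofHom (algebraMap A B)) ≫ j) {K : DCoh.D Y} {ω : Dual.D A}
    (e : (DCoh.restrictD j).obj K ≅ (DCoh.tildeD (CommRingCat.of A)).obj ω) :
    Nonempty ((DCoh.restrictD k).obj ((DCoh.Lpull f).obj K) ≅
      (DCoh.tildeD (CommRingCat.of B)).obj ((DRing.LBaseChange (algebraMap A B)).obj ω)) := by
  haveI : Flat (Spec.map (CommRingCat.ofHom (algebraMap A B))) :=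
    Flat.SpecMap_iff.2 (RingHom.flat_algebraMap_iff.2 inferInstance)
  haveI := KFlat.hasLpull (Spec.map (CommRingCat.ofHom (algebraMap A B)))
  obtain ⟨e₀⟩ := RelPCS.nonempty_lpullFlat f K
  obtain ⟨eT⟩ := TildeKFlat.nonempty_lpull_tildeD (algebraMap A B)
  obtain ⟨e₁⟩ := RelPCS.nonempty_lpullFlat (Spec.map (CommRingCat.ofHom (algebraMap A B)))
    ((DCoh.tildeD (CommRingCat.of A)).obj ω)
  exact ⟨(DCoh.restrictD k).mapIso e₀ ≪≫ (RelPCS.pbRdIso j k _ w).app K ≪≫
    (RelPCS.PB (Spec.map (CommRingCat.ofHom (algebraMap A B)))).mapIso e ≪≫ e₁.symm ≪≫ (eT.app ω).symm⟩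

/-- Gorenstein fibres at the maximal ideals of a chart. -/
theorem gorFibres_chart (f : X ⟶ Y) (hf : Dual3.IsGorensteinMor f) {A B : Type u} [CommRing A] [CommRing B]
    [Algebra A B] [Module.Flat A B]
    (j : Spec (CommRingCat.of A) ⟶ Y) [IsOpenImmersion j] (k : Spec (CommRingCat.of B) ⟶ X) [IsOpenImmersion k]
    (w : k ≫ f = Spec.map (CommRingCat.ofHom (algebraMap A B)) ≫ j) : DualFlat.GorFibres (A := A) B := fun n _ =>
  (GorMor.isGorensteinAt_SpecMap_iff (A := A) (B := B) ⟨n, inferInstance⟩).1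
    ((GorMor.isGorensteinAt_iff_of_etale w (show ↥(Spec (CommRingCat.of B)) from ⟨n, inferInstance⟩)).1 (hf _))

/-- Inverse image of a dualizing complex. -/
theorem isDualizingSch_Lpull [IsLocallyNoetherian X] (f : X ⟶ Y) [Flat f] [LocallyOfFiniteType f]
    (hf : Dual3.IsGorensteinMor f) [DCoh.HasLpull f] {K : DCoh.D Y} (hK : Dual2.IsDualizingSch Y K) :
    Dual2.IsDualizingSch X ((DCoh.Lpull f).obj K) := by
  haveI := fun (S T : Type u) [CommRing S] [CommRing T] (φ : S →+* T) => DRingKP.hasLBaseChange φ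
  have key : ∀ x : X, ∃ (A B : CommRingCat.{u}) (φ : A ⟶ B) (j : Spec A ⟶ Y) (k : Spec B ⟶ X),
      IsOpenImmersion j ∧ IsOpenImmersion k ∧ x ∈ Set.range k ∧ k ≫ f = Spec.map φ ≫ j := by
    intro x
    obtain ⟨A, j, hj, hfx, -⟩ :=
      Scheme.exists_affine_mem_range_and_range_subset (U := (⊤ : Y.Opens)) (x := f x) trivial
    obtain ⟨B, k, hk, hx, hsub⟩ :=
      Scheme.exists_affine_mem_range_and_range_subset (U := f ⁻¹ᵁ j.opensRange) (x := x) hfx
    refine ⟨A, B, Spec.preimage (IsOpenImmersion.lift j (k ≫ f) ?_), j, k, hj, hk, hx, ?_⟩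
    · rintro _ ⟨y, rfl⟩
      exact hsub ⟨y, rfl⟩
    · rw [Spec.map_preimage, IsOpenImmersion.lift_fac]
  choose A B φ j k hj hk hx w using key
  haveI := hk
  refine isDualizingSch_of_cover _ X (fun x => B x) (fun x => k x) (fun x => ⟨x, hx x⟩) fun x => ?_
  haveI := hj x
  letI : Algebra (A x) (B x) := (φ x).hom.toAlgebra
  obtain ⟨ω, hω, ⟨e⟩⟩ := hK (A x) (j x)
  haveI := hω.isNoetherianRing
  have hs : Flat (Spec.map (φ x) ≫ j x) ∧ LocallyOfFiniteType (Spec.map (φ x) ≫ j x) := by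
    rw [← w x]; exact ⟨inferInstance, inferInstance⟩
  haveI := hs.1
  haveI := hs.2
  haveI : LocallyOfFiniteType (Spec.map (φ x)) := locallyOfFiniteType_of_comp _ (j x)
  haveI : Flat (Spec.map (φ x)) := (Flat.iff_flat_stalkMap _).2 fun y =>
    FibreFlat.flatAt_cancel_etale (g := j x) (Flat.stalkMap (Spec.map (φ x) ≫ j x) y)
  haveI : Module.Flat (A x) (B x) := RingHom.flat_algebraMap_iff.1 (Flat.SpecMap_iff.1 ‹Flat (Spec.map (φ x))›)
  haveI : Algebra.FiniteType (A x) (B x) := RingHom.finiteType_algebraMap.1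
    ((HasRingHomProperty.Spec_iff (P := @LocallyOfFiniteType)).1 ‹LocallyOfFiniteType (Spec.map (φ x))›)
  haveI : IsNoetherianRing (B x) := Algebra.FiniteType.isNoetherianRing (A x) (B x)
  obtain ⟨e'⟩ := nonempty_chart_Lpull f (A := A x) (B := B x) (j x) (k x) (w x) e
  exact ⟨_, DualFlat.isDualizing_lBaseChange_finiteType (B x) ω
    (gorFibres_chart f hf (A := A x) (B := B x) (j x) (k x) (w x)) hω, ⟨e'⟩⟩

end Groth.Agent.DualSch
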