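import Groth.Agent.DualSch.GorBC
import Groth.Agent.Shriek.GorFib

/-!
Descent of dualizing complexes along flat surjective morphisms locally of finite type.
-/

set_option backward.isDefEq.respectTransparency false
set_option backward.isDefEq.respectTransparency.types false
set_option linter.style.haveILetI false
set_option autoImplicit false
set_option maxHeartbeats 1000000

universe u

open CategoryTheory CategoryTheory.Limits AlgebraicGeometry

attribute [local instance] HasDerivedCategory.standard

namespace Groth.Agent.DualSch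

open Groth.Agent.DQCoh

/-- Dualizing complexes descend along a jointly surjective finite family of flat algebras. -/
theorem isDualizing_of_family {A : Type u} [CommRing A] [IsNoetherianRing A] {n : ℕ} (B : Fin n → Type u)
    [∀ i, CommRing (B i)] [∀ i, Algebra A (B i)] [∀ i, IsNoetherianRing (B i)] [∀ i, Module.Flat A (B i)]
    (hsurj : ∀ q : PrimeSpectrum A, ∃ (i : Fin n) (Q : PrimeSpectrum (B i)), Q.comap (algebraMap A (B i)) = q)
    [∀ i, DRing.HasLBaseChange (algebraMap A (B i))] {ω : Dual.D A}
    (h : ∀ i, Dual.IsDualizing (B i) ((DRing.LBaseChange (algebraMap A (B i))).obj ω)) :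
    Dual.IsDualizing A ω := by
  haveI := fun (S T : Type u) [CommRing S] [CommRing T] (φ : S →+* T) => DRingKP.hasLBaseChange φ
  let P := (i : Fin n) → B i
  haveI : IsNoetherianRing P := inferInstance
  haveI : Module.Flat A P := Module.Flat.of_linearEquiv (DirectSum.linearEquivFunOnFintype A (Fin n) B).symm
  haveI : Module.FaithfullyFlat A P := by
    refine Module.FaithfullyFlat.of_comap_surjective fun q => ?_
    obtain ⟨i, Q, hQ⟩ := hsurj q
    exact ⟨Q.comap (Pi.evalRingHom B i), by rw [← hQ]; exact PrimeSpectrum.ext rfl⟩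
  refine DualFlat.isDualizing_of_lBaseChange P ω ?_
  let e : Fin n → P := fun i => Pi.single i 1
  refine DualCx.Loc.isDualizing_of_away e ?_ _ fun i => ⟨inferInstance, ?_⟩
  · rw [Ideal.eq_top_iff_one]
    have h1 : (1 : P) = ∑ i, e i := (Finset.univ_sum_single (1 : P)).symm
    rw [h1]
    exact Ideal.sum_mem _ fun i _ => Ideal.subset_span ⟨i, rfl⟩
  · letI : Algebra P (B i) := (Pi.evalRingHom B i).toAlgebra
    haveI : IsLocalization.Away (e i) (B i) := by
      refine IsLocalization.away_of_isIdempotentElem_of_mul ?_ (fun x y => ?_) (Function.surjective_eval i)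
      · show e i * e i = e i
        rw [← Pi.single_mul, mul_one]
      · show x i = y i ↔ e i * x = e i * y
        have hi : e i i = 1 := Pi.single_eq_same i 1
        refine ⟨fun hxy => ?_, fun hxy => ?_⟩
        · funext k
          show e i k * x k = e i k * y k
          by_cases hk : k = i
          · subst hk; rw [hxy]
          · rw [show e i k = 0 from Pi.single_eq_of_ne hk 1, zero_mul, zero_mul]
        · have h2 : e i i * x i = e i i * y i := congrFun hxy i
          rwa [hi, one_mul, one_mul] at h2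
    let α : B i ≃ₐ[P] Localization.Away (e i) :=
      IsLocalization.algEquiv (Submonoid.powers (e i)) (B i) (Localization.Away (e i))
    letI : Algebra (B i) (Localization.Away (e i)) := α.toAlgHom.toRingHom.toAlgebra
    haveI : IsLocalization (⊥ : Submonoid (B i)) (Localization.Away (e i)) := by
      haveI : IsLocalization (⊥ : Submonoid (B i)) (B i) := IsLocalization.of_le_isUnit
        (fun x hx => by rw [Submonoid.mem_bot] at hx; exact hx ▸ isUnit_one)
      exact IsLocalization.isLocalization_of_algEquiv ⊥ { α.toRingEquiv with commutes' := fun _ => rfl }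
    obtain ⟨e₁⟩ := Shriek.nonempty_lbcComp (algebraMap A P) (algebraMap P (Localization.Away (e i)))
      (algebraMap A (Localization.Away (e i))) (IsScalarTower.algebraMap_eq A P _).symm ω
    obtain ⟨e₂⟩ := Shriek.nonempty_lbcComp (algebraMap A (B i)) (algebraMap (B i) (Localization.Away (e i)))
      (algebraMap A (Localization.Away (e i))) (RingHom.ext fun a => by
        rw [IsScalarTower.algebraMap_apply A P (Localization.Away (e i))]
        exact α.commutes (algebraMap A P a)) ω
    exact DualCx.isDualizing_of_iso (e₂ ≪≫ e₁.symm)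
      (DualCx.Loc.isDualizing_lBaseChange (B := Localization.Away (e i)) ⊥ (h i))

variable {X Y : Scheme.{u}}
  [∀ (U V : Scheme.{u}) (j : U ⟶ V) [IsOpenImmersion j], PreservesFiniteLimits (Scheme.Modules.restrictFunctor j)]
  [∀ (R : CommRingCat.{u}), PreservesFiniteLimits (tilde.functor R)]

/-- Descent of dualizing complexes. -/
theorem isDualizingSch_of_Lpull [IsLocallyNoetherian X] [IsLocallyNoetherian Y] (f : X ⟶ Y) [Flat f] [Surjective f]
    [LocallyOfFiniteType f] [DCoh.HasLpull f] {K : DCoh.D Y} (hq : DCoh.IsQCohD K)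
    (hK : Dual2.IsDualizingSch X ((DCoh.Lpull f).obj K)) : Dual2.IsDualizingSch Y K := by
  haveI := fun (S T : Type u) [CommRing S] [CommRing T] (φ : S →+* T) => DRingKP.hasLBaseChange φ
  intro A _ j _
  obtain ⟨ω, ⟨eω⟩⟩ := ((tildeD_affine (R := CommRingCat.of A)).2.2 _).1
    (show DCoh.IsQCohD ((DCoh.restrictD j).obj K) from fun i =>
      QC.isQCoh_of_iso ((homologyDerIso (Scheme.Modules.restrictFunctor j) i).app K).symm
        (QC.isQCoh_restrict j (hq i)))
  refine ⟨ω, ?_, ⟨eω.symm⟩⟩
  haveI : IsLocallyNoetherian (Spec (CommRingCat.of A)) := LocallyOfFiniteType.isLocallyNoetherian j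
  haveI : IsNoetherianRing A := isLocallyNoetherian_Spec.1 ‹_›
  have key : ∀ q : PrimeSpectrum A, ∃ (B : CommRingCat.{u}) (φ : CommRingCat.of A ⟶ B) (k : Spec B ⟶ X)
      (z : PrimeSpectrum B), IsOpenImmersion k ∧ k ≫ f = Spec.map φ ≫ j ∧ z.comap φ.hom = q := by
    intro q
    obtain ⟨x, hx⟩ := f.surjective (j q)
    have hxV : x ∈ f ⁻¹ᵁ j.opensRange := ⟨q, hx.symm⟩
    obtain ⟨B, k, hk, ⟨z, hz⟩, hsub⟩ := Scheme.exists_affine_mem_range_and_range_subset (x := x) hxV
    have hr : Set.range (k ≫ f) ⊆ Set.range j := by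
      rintro _ ⟨y, rfl⟩
      exact hsub ⟨y, rfl⟩
    refine ⟨B, Spec.preimage (IsOpenImmersion.lift j (k ≫ f) hr), k, z, hk, ?_, ?_⟩
    · rw [Spec.map_preimage, IsOpenImmersion.lift_fac]
    · refine j.isOpenEmbedding.injective ?_
      show j ((Spec.map (Spec.preimage (IsOpenImmersion.lift j (k ≫ f) hr))) z) = j q
      rw [Spec.map_preimage, ← Scheme.Hom.comp_apply, IsOpenImmersion.lift_fac, Scheme.Hom.comp_apply, hz, hx]
  choose B φ k z hk w hzq using key
  haveI := hk
  letI algB : ∀ q, Algebra A (B q) := fun q => (φ q).hom.toAlgebra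
  have hprop : ∀ q, Module.Flat A (B q) ∧ Algebra.FiniteType A (B q) := fun q => by
    have hs : Flat (Spec.map (φ q) ≫ j) ∧ LocallyOfFiniteType (Spec.map (φ q) ≫ j) := by
      rw [← w q]; exact ⟨inferInstance, inferInstance⟩
    haveI := hs.1
    haveI := hs.2
    haveI : LocallyOfFiniteType (Spec.map (φ q)) := locallyOfFiniteType_of_comp _ j
    haveI : Flat (Spec.map (φ q)) := (Flat.iff_flat_stalkMap _).2 fun y =>
      FibreFlat.flatAt_cancel_etale (g := j) (Flat.stalkMap (Spec.map (φ q) ≫ j) y)
    exact ⟨RingHom.flat_algebraMap_iff.1 (Flat.SpecMap_iff.1 ‹Flat (Spec.map (φ q))›),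
      RingHom.finiteType_algebraMap.1
        ((HasRingHomProperty.Spec_iff (P := @LocallyOfFiniteType)).1 ‹LocallyOfFiniteType (Spec.map (φ q))›)⟩
  have hopen : ∀ q, IsOpen (Set.range (PrimeSpectrum.comap (algebraMap A (B q)))) := fun q => by
    haveI := (hprop q).1
    haveI := (hprop q).2
    haveI : Algebra.FinitePresentation A (B q) := Algebra.FinitePresentation.of_finiteType.1 inferInstance
    exact (PrimeSpectrum.isOpenMap_comap_of_hasGoingDown_of_finitePresentation (R := A) (S := B q)).isOpen_range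
  obtain ⟨t, ht⟩ := isCompact_univ.elim_finite_subcover _ hopen
    (fun q _ => Set.mem_iUnion.2 ⟨q, z q, hzq q⟩)
  let i₀ : Fin t.card → PrimeSpectrum A := fun i => (t.equivFin.symm i : PrimeSpectrum A)
  haveI : ∀ i, Module.Flat A (B (i₀ i)) := fun i => (hprop _).1
  haveI : ∀ i, IsNoetherianRing (B (i₀ i)) := fun i => by
    haveI := (hprop (i₀ i)).2
    exact Algebra.FiniteType.isNoetherianRing A (B (i₀ i))
  refine isDualizing_of_family (fun i => B (i₀ i)) (fun q => ?_) fun i => ?_
  · obtain ⟨p, hp, Q, hQ⟩ := Set.mem_iUnion₂.1 (ht (Set.mem_univ q))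
    have hi : p = i₀ (t.equivFin ⟨p, hp⟩) := (congrArg Subtype.val (t.equivFin.symm_apply_apply ⟨p, hp⟩)).symm
    refine ⟨t.equivFin ⟨p, hp⟩, ?_⟩
    have hex : ∃ Q : PrimeSpectrum (B p), Q.comap (algebraMap A (B p)) = q := ⟨Q, hQ⟩
    rw [hi] at hex
    exact hex
  · obtain ⟨ω', hω', ⟨e'⟩⟩ := hK (B (i₀ i)) (k (i₀ i))
    obtain ⟨e''⟩ := nonempty_chart_Lpull f (A := A) (B := B (i₀ i)) j (k (i₀ i)) (w (i₀ i)) eω.symm
    obtain ⟨e⟩ := nonempty_iso_of_tildeD (e'.symm ≪≫ e'')
    exact DualCx.isDualizing_of_iso e hω'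

end Groth.Agent.DualSch
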