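import Groth.Agent.DualSch.GorDesc
import Groth.Agent.Goren.LCI
import Groth.Agent.FlatDepth.Fibre

/-!
Flat local complete intersection morphisms are Gorenstein and locally of finite type.
-/

set_option backward.isDefEq.respectTransparency false
set_option backward.isDefEq.respectTransparency.types false
set_option linter.style.haveILetI false
set_option autoImplicit false
set_option maxHeartbeats 1000000

universe u

open CategoryTheory CategoryTheory.Limits AlgebraicGeometry

namespace Groth.Agent.DualSch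

variable {X Y : Scheme.{u}}

theorem isGorensteinMor_of_lci (f : X ⟶ Y) [Flat f] (hf : Dual3.IsLCIMor f) : Dual3.IsGorensteinMor f := by
  intro x
  obtain ⟨U, V, e, hx, hl⟩ := hf x
  letI := (f.appLE V.1 U.1 e).hom.toAlgebra
  haveI : Module.Flat Γ(Y, V.1) Γ(X, U.1) :=
    RingHom.flat_algebraMap_iff.1 (HasRingHomProperty.appLE (P := @Flat) f inferInstance V U e)
  have w : U.2.fromSpec ≫ f =
      Spec.map (CommRingCat.ofHom (algebraMap Γ(Y, V.1) Γ(X, U.1))) ≫ V.2.fromSpec :=
    (IsAffineOpen.SpecMap_appLE_fromSpec f V.2 U.2 e).symm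
  obtain ⟨q, rfl⟩ : x ∈ Set.range U.2.fromSpec := by rw [U.2.range_fromSpec]; exact hx
  refine (GorMor.isGorensteinAt_iff_of_etale w q).2 ((GorMor.isGorensteinAt_SpecMap_iff q).2 ?_)
  obtain ⟨Q, _, ⟨eQ⟩⟩ := FlatDepth.exists_fibre_equiv (A := Γ(Y, V.1)) q.asIdeal
  haveI := (Goren.isGorensteinRing_fibre Γ(Y, V.1) Γ(X, U.1) hl
    (q.asIdeal.comap (algebraMap Γ(Y, V.1) Γ(X, U.1))).ResidueField).isGorensteinLocalRing_localization Q
  exact Goren.isGorenstein_of_equiv (A := Localization.AtPrime Q) eQ

theorem locallyOfFiniteType_of_lci (f : X ⟶ Y) (hf : Dual3.IsLCIMor f) : LocallyOfFiniteType f := by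
  refine (HasRingHomProperty.iff_exists_appLE (P := @LocallyOfFiniteType) (RingHom.finiteType_stableUnderComposition.stableUnderCompositionWithLocalizationAway RingHom.finiteType_holdsForLocalizationAway).1).2
    fun x => ?_
  obtain ⟨U, V, e, hx, hl⟩ := hf x
  letI := (f.appLE V.1 U.1 e).hom.toAlgebra
  refine ⟨V, U, hx, e, ?_⟩
  obtain ⟨-, n, g, hg, -⟩ := id hl
  exact RingHom.finiteType_algebraMap.2 (Algebra.FiniteType.of_surjective g hg)

end Groth.Agent.DualSch
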