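import Groth.Agent.DualSch.StalkMod
import Groth.Agent.FibDepth.SkAlg

/-!
The lowest cohomology of a dualizing complex of a local ring.
-/

set_option linter.style.haveILetI false
set_option autoImplicit false
set_option maxHeartbeats 1000000

universe u

open CategoryTheory IsLocalRing

attribute [local instance] HasDerivedCategory.standard

namespace Groth.Agent.DualSch

open Groth.Agent.DualCx

variable {A : Type u} [CommRing A] [IsNoetherianRing A] [IsLocalRing A] {w : Dual.D A}

/-- The lowest cohomology is the canonical module. -/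
theorem exists_canonical (hw : Dual.IsDualizing A w) {n : ℤ}
    (hlt : ∀ i : ℤ, i < n → Subsingleton (Dual.HD A w i)) (hn : Nontrivial (Dual.HD A w n)) :
    ∃ (ω : Dual.D A) (d : ℕ), Dual.IsDualizing A ω ∧ Dual.IsNormalized A ω ∧ ringKrullDim A = (d : WithBot ℕ∞) ∧
      Nonempty (Dual.HD A ω (-(d : ℤ)) ≃ₗ[A] Dual.HD A w n) := by
  obtain ⟨s, hs⟩ := exists_normalized_shift hw
  have hω := isDualizing_shift hw s
  obtain ⟨d, hd, htop⟩ := exists_top hω hs (M := A)
  have hd' : ringKrullDim A = (d : WithBot ℕ∞) := (Module.supportDim_self_eq_ringKrullDim (R := A)).symm.trans hd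
  haveI := htop
  haveI : Nontrivial (Dual.HD A (w⟦s⟧) (-(d : ℤ))) := (homEquiv (w⟦s⟧) (-(d : ℤ))).toEquiv.symm.nontrivial
  obtain ⟨e⟩ := nonempty_hd_shift w s (-(d : ℤ))
  have h1 : Nontrivial (Dual.HD A w (s + -(d : ℤ))) := e.toEquiv.symm.nontrivial
  have h2 : n ≤ s + -(d : ℤ) := by
    by_contra h
    exact not_subsingleton_iff_nontrivial.2 h1 (hlt _ (by omega))
  obtain ⟨e'⟩ := nonempty_hd_shift w s (n - s)
  haveI : Nontrivial (Dual.HD A (w⟦s⟧) (n - s)) := by
    rw [show n = s + (n - s) by omega] at hn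
    exact e'.toEquiv.nontrivial
  haveI : Nontrivial (Dual.inD A A ⟶ (w⟦s⟧)⟦(n - s)⟧) := (homEquiv (w⟦s⟧) (n - s)).toEquiv.nontrivial
  obtain ⟨h3, -⟩ := mem_bounds hω hs d hd.le (i := n - s) (M := A) inferInstance
  refine ⟨w⟦s⟧, d, hω, hs, hd', ?_⟩
  rw [show n = s + -(d : ℤ) by omega]
  exact ⟨e⟩

/-- The lowest cohomology satisfies `(S₂)`. -/
theorem hasSk_two_lowest (hw : Dual.IsDualizing A w) {n : ℤ}
    (hlt : ∀ i : ℤ, i < n → Subsingleton (Dual.HD A w i)) : LocCoh.HasSk 2 A (Dual.HD A w n) := by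
  rcases subsingleton_or_nontrivial (Dual.HD A w n) with h | h
  · intro p _
    haveI : Subsingleton (LocalizedModule p.primeCompl (Dual.HD A w n)) :=
      LocalizedModule.subsingleton_iff.2 fun m => ⟨1, p.primeCompl.one_mem, Subsingleton.elim _ _⟩
    rw [Module.supportDim_eq_bot_of_subsingleton]
    simp
  · obtain ⟨ω, d, hω, hn, hd, ⟨e⟩⟩ := exists_canonical hw hlt h
    exact FibDepth.hasSk_congr e 2 (DualCx.hasSk_two hω hn d hd)

/-- Over a domain the lowest cohomology is torsion-free. -/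
theorem isTorsionFree_lowest [IsDomain A] (hw : Dual.IsDualizing A w) {n : ℤ}
    (hlt : ∀ i : ℤ, i < n → Subsingleton (Dual.HD A w i)) : Module.IsTorsionFree A (Dual.HD A w n) := by
  refine ⟨fun y hy v v' hvv => ?_⟩
  rcases subsingleton_or_nontrivial (Dual.HD A w n) with h | h
  · exact Subsingleton.elim _ _
  obtain ⟨ω, d, hω, hn, hd, ⟨e⟩⟩ := exists_canonical hw hlt h
  have hA : ∀ r : PrimeSpectrum A, del hω r ≤ (d : ℤ) := fun r => by
    have h1 := ringKrullDim_quotient_eq hω hn r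
    have h2 : ringKrullDim (A ⧸ r.asIdeal) ≤ ringKrullDim A := ringKrullDim_quotient_le r.asIdeal
    rw [h1, hd] at h2
    have : (del hω r).toNat ≤ d := by exact_mod_cast h2
    lia
  obtain ⟨u, hu, hz⟩ := regular_top hω (M := A) (q := closedPoint A) (y := y) (e := (d : ℤ))
    (fun r _ _ => hA r) (fun r _ _ hyr => by
      have hlt' : (⟨⊥, Ideal.isPrime_bot⟩ : PrimeSpectrum A) < r := by
        refine lt_of_le_of_ne (fun z hz => (Submodule.mem_bot A).1 hz ▸ r.asIdeal.zero_mem) fun h' => ?_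
        rw [← h'] at hyr
        exact hy.ne_zero ((Submodule.mem_bot A).1 hyr)
      exact lt_of_lt_of_le (del_lt hω hlt') (hA _))
    ((homEquiv ω (-(d : ℤ))).symm (e.symm (v - v')))
    ⟨1, (closedPoint A).isPrime.one_notMem, by
      rw [one_smul, ← map_smul, ← map_smul, smul_sub, sub_eq_zero.2 hvv, map_zero, map_zero]⟩
  have hu' : IsUnit u := IsLocalRing.notMem_maximalIdeal.1 hu
  rw [hu'.smul_eq_zero, LinearEquiv.map_eq_zero_iff, LinearEquiv.map_eq_zero_iff] at hz
  exact sub_eq_zero.1 hz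

end Groth.Agent.DualSch
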