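import Groth.Agent.DualSch.Chart
import Groth.Agent.DualCx.LocD
import Groth.Agent.DualCx.LocalizeAway
import Groth.Agent.DQCoh.PCCalc
import Groth.Agent.QC.PullbackTilde
import Groth.Agent.TildeKFlat.Lpull

/-!
Restriction of `M~` to affine opens of an affine scheme.
-/

set_option backward.isDefEq.respectTransparency false
set_option backward.isDefEq.respectTransparency.types false
set_option linter.style.haveILetI false
set_option autoImplicit false

universe w₁ w₂ w₃ v₁ v₂ v₃ u u₁ u₂ u₃

open CategoryTheory CategoryTheory.Limits AlgebraicGeometry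

attribute [local instance] HasDerivedCategory.standard

namespace Groth.Agent.DualSch

section Generic

variable {C₁ : Type u₁} [Category.{v₁} C₁] [Abelian C₁]
  {C₂ C₂' : Type u₂} [Category.{v₂} C₂] [Abelian C₂] [Category.{v₂} C₂'] [Abelian C₂']
  {C₃ : Type u₃} [Category.{v₃} C₃] [Abelian C₃]
  (F₁ : C₁ ⥤ C₂) (G₁ : C₂ ⥤ C₃) (F₂ : C₁ ⥤ C₂') (G₂ : C₂' ⥤ C₃)
  [F₁.Additive] [PreservesFiniteLimits F₁] [PreservesFiniteColimits F₁]
  [G₁.Additive] [PreservesFiniteLimits G₁] [PreservesFiniteColimits G₁]
  [F₂.Additive] [PreservesFiniteLimits F₂] [PreservesFiniteColimits F₂]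
  [G₂.Additive] [PreservesFiniteLimits G₂] [PreservesFiniteColimits G₂]

/-- A commutative square of exact functors gives one of derived categories. -/
noncomputable def mdcSquare (e : F₁ ⋙ G₁ ≅ F₂ ⋙ G₂) :
    F₁.mapDerivedCategory ⋙ G₁.mapDerivedCategory ≅ F₂.mapDerivedCategory ⋙ G₂.mapDerivedCategory :=
  Localization.liftNatIso DerivedCategory.Q (HomologicalComplex.quasiIso C₁ (ComplexShape.up ℤ))
    (DerivedCategory.Q ⋙ F₁.mapDerivedCategory ⋙ G₁.mapDerivedCategory)
    (DerivedCategory.Q ⋙ F₂.mapDerivedCategory ⋙ G₂.mapDerivedCategory) _ _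
    ((Functor.associator _ _ _).symm ≪≫
      Functor.isoWhiskerRight F₁.mapDerivedCategoryFactors _ ≪≫ Functor.associator _ _ _ ≪≫
      Functor.isoWhiskerLeft _ G₁.mapDerivedCategoryFactors ≪≫ (Functor.associator _ _ _).symm ≪≫
      Functor.isoWhiskerRight (Functor.mapHomologicalComplexCompIso e (ComplexShape.up ℤ) ≪≫
        (Functor.mapHomologicalComplexCompIso (Iso.refl (F₂ ⋙ G₂)) (ComplexShape.up ℤ)).symm) _ ≪≫
      Functor.associator _ _ _ ≪≫
      Functor.isoWhiskerLeft _ G₂.mapDerivedCategoryFactors.symm ≪≫ (Functor.associator _ _ _).symm ≪≫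
      Functor.isoWhiskerRight F₂.mapDerivedCategoryFactors.symm _ ≪≫ Functor.associator _ _ _)

end Generic

variable {A B : Type u} [CommRing A] [CommRing B] [Algebra A B] [Module.Flat A B]
  [IsOpenImmersion (Spec.map (CommRingCat.ofHom (algebraMap A B)))]
  [PreservesFiniteLimits (Scheme.Modules.restrictFunctor (Spec.map (CommRingCat.ofHom (algebraMap A B))))]
  [PreservesFiniteLimits (tilde.functor (CommRingCat.of A))]
  [PreservesFiniteLimits (tilde.functor (CommRingCat.of B))]

/-- Restriction of `M~` to an affine open is the derived base change. -/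
theorem nonempty_restrict_tildeD [DRing.HasLBaseChange (algebraMap A B)] (K : Dual.D A) :
    Nonempty ((DCoh.restrictD (Spec.map (CommRingCat.ofHom (algebraMap A B)))).obj
        ((DCoh.tildeD (CommRingCat.of A)).obj K) ≅
      (DCoh.tildeD (CommRingCat.of B)).obj ((DRing.LBaseChange (algebraMap A B)).obj K)) := by
  haveI : PreservesFiniteLimits (DualCx.ext (algebraMap A B)) := DualCx.preservesFiniteLimits_ext
  let e : tilde.functor (CommRingCat.of A) ⋙
      Scheme.Modules.restrictFunctor (Spec.map (CommRingCat.ofHom (algebraMap A B))) ≅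
      DualCx.ext (algebraMap A B) ⋙ tilde.functor (CommRingCat.of B) :=
    Functor.isoWhiskerLeft _ (Scheme.Modules.restrictFunctorIsoPullback _) ≪≫
      QC.pullbackTildeIso (CommRingCat.ofHom (algebraMap A B))
  exact ⟨(mdcSquare _ _ _ _ e).app K ≪≫
    (DCoh.tildeD (CommRingCat.of B)).mapIso (DualCx.lBaseChangeObjIso (algebraMap A B) K).symm⟩

end Groth.Agent.DualSch
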