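import Groth.Agent.DualCx.LocalizeGlobal
import Groth.Agent.DualCx.LocD
import Groth.Agent.DQCoh.Affine
import Groth.Agent.TildeKFlat.Main
import Groth.Agent.KFlat.Pullback
import Groth.Agent.DQPush.OpenBC
import Groth.Agent.H4Easy.Batch8
import Groth.Agent.DQCoh.AffinePerf
import Groth.Agent.DCohShriek.CoherentMain

/-!
Stalkwise criterion for a bounded complex of injectives to be dualizing.
-/

set_option autoImplicit false
set_option backward.isDefEq.respectTransparency false
set_option backward.isDefEq.respectTransparency.types false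
set_option linter.style.haveILetI false
set_option linter.unusedSectionVars false
set_option maxHeartbeats 1000000

universe u

open CategoryTheory Limits AlgebraicGeometry HomologicalComplex

attribute [local instance] HasDerivedCategory.standard

namespace Groth.Agent.DualSch

open Groth.Agent.DualCx (locD locQ ext IsLocMap)

/-- dualizing complexes pass along bijective ring maps -/
theorem isDualizing_ext_of_bijective {R S : Type u} [CommRing R] [CommRing S] (φ : R →+* S) (hφ : Function.Bijective φ)
    {C : CochainComplex (ModuleCat.{u} R) ℤ} (h : Dual.IsDualizing R (DRing.toD C)) :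
    Dual.IsDualizing S (DRing.toD ((DRingKP.bc φ).obj C)) := by
  haveI := h.isNoetherianRing
  haveI : IsLocMap φ (⊥ : Submonoid R) := ⟨by
    letI := φ.toAlgebra
    haveI : IsLocalization (⊥ : Submonoid R) R := IsLocalization.self bot_le
    exact IsLocalization.isLocalization_of_algEquiv (⊥ : Submonoid R)
      (AlgEquiv.ofBijective (Algebra.ofId R S) hφ)⟩
  haveI := DualCx.preservesFiniteLimits_of_isLocMap φ (⊥ : Submonoid R)
  exact DualCx.isDualizing_of_iso (locQ φ C) (DualCx.isDualizing_locD φ (⊥ : Submonoid R) h)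

/-- restrictions of injective modules are injective -/
theorem injective_restrict {X' X : Scheme.{u}} (j : X' ⟶ X) [IsOpenImmersion j] (M : X.Modules) [Injective M] :
    Injective ((Scheme.Modules.restrictFunctor j).obj M) := by
  let U := j.opensRange
  let a := j.isoOpensRange
  let P := Scheme.Modules.pushforward a.inv
  let e : Scheme.Modules.restrictFunctor j ≅ Scheme.Modules.restrictFunctor U.ι ⋙ P :=
    Scheme.Modules.restrictFunctorCongr j.isoOpensRange_hom_ι.symm ≪≫
      Scheme.Modules.restrictFunctorComp a.hom U.ι ≪≫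
      Functor.isoWhiskerLeft _ ((Functor.leftUnitor _).symm ≪≫
        Functor.isoWhiskerRight ((Scheme.Modules.pushforwardId _).symm ≪≫
          Scheme.Modules.pushforwardCongr a.inv_hom_id.symm ≪≫ (Scheme.Modules.pushforwardComp a.inv a.hom).symm) _ ≪≫
        Functor.associator _ _ _ ≪≫
        Functor.isoWhiskerLeft P (Scheme.Modules.restrictFunctorAdjCounitIso a.hom) ≪≫ Functor.rightUnitor _)
  haveI := DQPush.preservesFiniteLimits_extZero U
  haveI : Injective ((Scheme.Modules.restrictFunctor U.ι).obj M) :=
    Injective.injective_of_adjoint (CxOX.extZeroAdj U.ι) M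
  haveI : Injective ((Scheme.Modules.restrictFunctor U.ι ⋙ P).obj M) :=
    Injective.injective_of_adjoint (Scheme.Modules.restrictAdjunction a.inv) _
  exact Injective.of_iso (e.app M).symm inferInstance

/-- the algebra structure of a stalk of `Spec A` -/
noncomputable abbrev stalkAlgebra (A : Type u) [CommRing A] (q : Spec (CommRingCat.of A)) :
    Algebra A ((Spec (CommRingCat.of A)).presheaf.stalk q) :=
  (TildeKFlat.toStalkRing (R := CommRingCat.of A) q).toAlgebra

/-- restriction and stalks, on complexes -/
noncomputable def stalkRestrictIso {A : Type u} [CommRing A] {X : Scheme.{u}} (j : Spec (CommRingCat.of A) ⟶ X)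
    [IsOpenImmersion j] (q : Spec (CommRingCat.of A)) (I : CochainComplex X.Modules ℤ) :
    (DRingKP.bc (j.stalkMap q).hom).obj
        (((DerSch.stalkFunctor X (j q)).mapHomologicalComplex (ComplexShape.up ℤ)).obj I) ≅
      ((DerSch.stalkFunctor (Spec (CommRingCat.of A)) q).mapHomologicalComplex (ComplexShape.up ℤ)).obj
        (((Scheme.Modules.restrictFunctor j).mapHomologicalComplex (ComplexShape.up ℤ)).obj I) :=
  Hom.isoOfComponents (fun n => (KFlat.pullStalkIso j q).symm.app (I.X n) ≪≫
      (DerSch.stalkFunctor (Spec (CommRingCat.of A)) q).mapIso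
        ((Scheme.Modules.restrictFunctorIsoPullback j).symm.app (I.X n)))
    fun n n' _ => (((KFlat.pullStalkIso j q).symm ≪≫ Functor.isoWhiskerRight
      (Scheme.Modules.restrictFunctorIsoPullback j).symm (DerSch.stalkFunctor (Spec (CommRingCat.of A)) q)).hom.naturality
        (I.d n n')).symm

/-- stalks of tilde, on complexes -/
noncomputable def stalkTildeIso {A : Type u} [CommRing A] (q : Spec (CommRingCat.of A))
    (E : CochainComplex (ModuleCat.{u} A) ℤ) :
    (DRingKP.bc (TildeKFlat.toStalkRing (R := CommRingCat.of A) q)).obj E ≅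
      ((DerSch.stalkFunctor (Spec (CommRingCat.of A)) q).mapHomologicalComplex (ComplexShape.up ℤ)).obj
        (((tilde.functor (CommRingCat.of A)).mapHomologicalComplex (ComplexShape.up ℤ)).obj E) :=
  let d := @asIso _ _ _ _ (TildeKFlat.cmp (R := CommRingCat.of A) q) (TildeKFlat.isIso_cmp (R := CommRingCat.of A) q)
  Hom.isoOfComponents (fun n => d.app (E.X n)) fun n n' _ => (d.hom.naturality (E.d n n')).symm

/-- the local statement at a prime -/
theorem isDualizing_stalk {A : Type u} [CommRing A] {X : Scheme.{u}} (j : Spec (CommRingCat.of A) ⟶ X)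
    [IsOpenImmersion j] (q : PrimeSpectrum A) (I : CochainComplex X.Modules ℤ)
    (E : CochainComplex (ModuleCat.{u} A) ℤ)
    (c : ((tilde.functor (CommRingCat.of A)).mapHomologicalComplex (ComplexShape.up ℤ)).obj E ⟶
      ((Scheme.Modules.restrictFunctor j).mapHomologicalComplex (ComplexShape.up ℤ)).obj I) [QuasiIso c]
    [DRing.HasLBaseChange (TildeKFlat.toStalkRing (R := CommRingCat.of A) q)]
    (h : Dual.IsDualizing (X.presheaf.stalk (j q))
      (DRing.toD (((DerSch.stalkFunctor X (j q)).mapHomologicalComplex (ComplexShape.up ℤ)).obj I))) :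
    Dual.IsDualizing ((Spec (CommRingCat.of A)).presheaf.stalk q)
      ((DRing.LBaseChange (TildeKFlat.toStalkRing (R := CommRingCat.of A) q)).obj (DerivedCategory.Q.obj E)) := by
  have h1 := isDualizing_ext_of_bijective (j.stalkMap q).hom (ConcreteCategory.bijective_of_isIso (j.stalkMap q)) h
  let φ := TildeKFlat.toStalkRing (R := CommRingCat.of A) q
  letI := stalkAlgebra A q
  haveI : IsLocalization q.asIdeal.primeCompl ((Spec (CommRingCat.of A)).presheaf.stalk q) :=
    inferInstanceAs (IsLocalization q.asIdeal.primeCompl ((Spec.structureSheaf A).presheaf.stalk q))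
  haveI : Module.Flat A ((Spec (CommRingCat.of A)).presheaf.stalk q) := IsLocalization.flat _ q.asIdeal.primeCompl
  haveI : PreservesFiniteLimits (ext φ) := DualCx.preservesFiniteLimits_ext
  let stq := (DerSch.stalkFunctor (Spec (CommRingCat.of A)) q).mapHomologicalComplex (ComplexShape.up ℤ)
  haveI : QuasiIso (stq.map c) :=
    quasiIso_map_of_preservesHomology c (DerSch.stalkFunctor (Spec (CommRingCat.of A)) q)
  let e₁ : DRing.toD ((DRingKP.bc φ).obj E) ≅
      DRing.toD ((DRingKP.bc (j.stalkMap q).hom).obj
        (((DerSch.stalkFunctor X (j q)).mapHomologicalComplex (ComplexShape.up ℤ)).obj I)) :=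
    DerivedCategory.Q.mapIso (stalkTildeIso q E) ≪≫ asIso (DerivedCategory.Q.map (stq.map c)) ≪≫
      DerivedCategory.Q.mapIso (stalkRestrictIso j q I).symm
  exact DualCx.isDualizing_of_iso (e₁.symm ≪≫ (locQ φ E).symm ≪≫ (DualCx.lBaseChangeObjIso φ _).symm) h1

/-- a complex of injective modules modelling a bounded complex of injectives on a chart -/
theorem exists_chart_model {X : Scheme.{u}} (I : CochainComplex X.Modules ℤ) (hIinj : ∀ i, Injective (I.X i)) {a b : ℤ}
    (hI : ∀ i, (i < a ∨ b < i) → IsZero (I.X i)) (hcoh : ∀ i, Coh.IsCoh (I.homology i))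
    {R : CommRingCat.{u}} (j : Spec R ⟶ X) [IsOpenImmersion j] :
    ∃ (E : CochainComplex (ModuleCat.{u} R) ℤ) (c : ((tilde.functor R).mapHomologicalComplex (ComplexShape.up ℤ)).obj E ⟶
        ((Scheme.Modules.restrictFunctor j).mapHomologicalComplex (ComplexShape.up ℤ)).obj I),
      QuasiIso c ∧ (∀ i, (i < a ∨ b < i) → IsZero (E.X i)) ∧ ∀ i, Injective (E.X i) := by
  let J : CochainComplex (Spec R).Modules ℤ :=
    ((Scheme.Modules.restrictFunctor j).mapHomologicalComplex (ComplexShape.up ℤ)).obj I
  haveI : I.IsStrictlyGE a := (CochainComplex.isStrictlyGE_iff _ _).2 fun i hi => hI i (Or.inl hi)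
  haveI := hIinj
  haveI : CochainComplex.IsKInjective J :=
    DQPush.isKInjective_restrict_open j I (CochainComplex.isKInjective_of_injective I a)
  haveI : ∀ i, Injective (J.X i) := fun i => injective_restrict j (I.X i)
  have hJc : ∀ i, Coh.IsQCoh (DCoh.HD (DerivedCategory.Q.obj J) i) := fun i =>
    QC.isQCoh_of_iso (((DerivedCategory.homologyFunctorFactors (Spec R).Modules i).app J) ≪≫
      (ShortComplex.mapHomologyIso (I.sc i) (Scheme.Modules.restrictFunctor j))).symm
      (QC.isQCoh_restrict j (hcoh i).1)
  exact ⟨((moduleSpecΓFunctor (R := R)).mapHomologicalComplex (ComplexShape.up ℤ)).obj J,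
    (KInj.mapHomologicalComplexAdj (tilde.adjunction (R := R)) (ComplexShape.up ℤ)).counit.app J,
    DQCoh.quasiIso_counit J hJc,
    fun i hi => (moduleSpecΓFunctor (R := R)).map_isZero ((Scheme.Modules.restrictFunctor j).map_isZero (hI i hi)),
    fun i => Injective.injective_of_adjoint (tilde.adjunction (R := R)) (J.X i)⟩

/-- **a bounded complex of injectives with dualizing stalks is dualizing on each chart** -/
theorem exists_chart_dualizing {X : Scheme.{u}} [IsLocallyNoetherian X]
    (I : CochainComplex X.Modules ℤ) (hIinj : ∀ i, Injective (I.X i)) {a b : ℤ}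
    (hI : ∀ i, (i < a ∨ b < i) → IsZero (I.X i)) (hcoh : ∀ i, Coh.IsCoh (I.homology i))
    (hst : ∀ x : X, Dual.IsDualizing (X.presheaf.stalk x)
      (DRing.toD (((DerSch.stalkFunctor X x).mapHomologicalComplex (ComplexShape.up ℤ)).obj I)))
    (A : Type u) [CommRing A] [IsNoetherianRing A] (j : Spec (CommRingCat.of A) ⟶ X) [IsOpenImmersion j]
    [PreservesFiniteLimits (Scheme.Modules.restrictFunctor j)]
    [PreservesFiniteLimits (tilde.functor (CommRingCat.of A))] :
    ∃ ω : Dual.D A, Dual.IsDualizing A ω ∧
      Nonempty ((DCoh.restrictD j).obj (DerivedCategory.Q.obj I) ≅ (DCoh.tildeD (CommRingCat.of A)).obj ω) := by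
  obtain ⟨E, c, hc, hz, hinj⟩ := exists_chart_model I hIinj hI hcoh j
  have eω : (DCoh.restrictD j).obj (DerivedCategory.Q.obj I) ≅
      (DCoh.tildeD (CommRingCat.of A)).obj (DerivedCategory.Q.obj E) :=
    (Scheme.Modules.restrictFunctor j).mapDerivedCategoryFactors.app I ≪≫ (asIso (DerivedCategory.Q.map c)).symm ≪≫
      ((tilde.functor (CommRingCat.of A)).mapDerivedCategoryFactors.app E).symm
  have hfin : ∀ i, Module.Finite A (Dual.HD A (DerivedCategory.Q.obj E) i) := fun i => by
    refine (H4Easy.isFT_tilde_iff (CommRingCat.of A) _).1 (K0Coh.isCoh_of_iso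
      (((Scheme.Modules.restrictFunctor j).mapIso
          ((DerivedCategory.homologyFunctorFactors X.Modules i).app I)).symm ≪≫
        ((DQCoh.homologyDerIso (Scheme.Modules.restrictFunctor j) i).app _).symm ≪≫
        (DerivedCategory.homologyFunctor _ i).mapIso eω ≪≫
        (DQCoh.homologyDerIso (tilde.functor (CommRingCat.of A)) i).app _)
      (DCohShriek.isCoh_restrictFunctor j (hcoh i))).2
  refine ⟨DerivedCategory.Q.obj E, ?_, ⟨eω⟩⟩
  have hamp : DRing.HasInjAmplitudeIn A a b (DerivedCategory.Q.obj E) :=
    ⟨E, hz, fun i => (Module.injective_iff_injective_object A _).2 (hinj i), ⟨Iso.refl _⟩⟩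
  letI : ∀ q : PrimeSpectrum A, Algebra A ((Spec (CommRingCat.of A)).presheaf.stalk q) := fun q => stalkAlgebra A q
  haveI : ∀ q : PrimeSpectrum A,
      IsLocalization q.asIdeal.primeCompl ((Spec (CommRingCat.of A)).presheaf.stalk q) := fun q =>
    inferInstanceAs (IsLocalization q.asIdeal.primeCompl ((Spec.structureSheaf A).presheaf.stalk q))
  exact DualCx.Loc.isDualizing_of_injAmp_of_cover hamp hfin
    (fun q : PrimeSpectrum A => (Spec (CommRingCat.of A)).presheaf.stalk q)
    (fun q => q.asIdeal.primeCompl) (fun M hM => ⟨⟨M, hM.isPrime⟩, fun s hs => hs⟩) fun q =>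
    haveI : DRing.HasLBaseChange (TildeKFlat.toStalkRing (R := CommRingCat.of A) q) := DRingKP.hasLBaseChange _
    ⟨DRingKP.hasLBaseChange _, isDualizing_stalk j q I E c (hst (j q))⟩

end Groth.Agent.DualSch
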